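import Cfsg.Agent.Known.CurtisTitsD.RelsX
import Cfsg.Agent.Known.OPlusSt.Finish

/-!
# The spin group covers every group with root elements of type `D`
-/

set_option autoImplicit false
set_option linter.unusedSectionVars false

open scoped commutatorElement
open Matrix
open Cfsg.Lib.SpPres (Sgn op mag)

namespace Cfsg.Lib.OPlusPres

universe u v

variable {F : Type v} [Field F] {G : Type u} [Group G]

/-- A group generated by root elements of type `D` is covered by the spin group. -/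
theorem exists_cover_any {n : ℕ} [Finite F] (hn : 4 ≤ n) {X : Sgn n → Sgn n → F → G}
    (hX : OPlusSt.Rels X) :
    ∃ Φ : ↥(OPlusSt.Gamma n F) →* G, ∀ a b, mag a ≠ mag b → ∀ t, Φ (OPlusSt.XG a b t) = X a b t := by
  classical
  let Z : Sgn n → Sgn n → F → G × ↥(OPlusSt.Gamma n F) := fun a b t => (X a b t, OPlusSt.XG a b t)
  have hR := OPlusSt.rels_XG (n := n) (F := F)
  have hZ : OPlusSt.Rels Z :=
    ⟨fun a b h t => Prod.ext (hX.anti a b h t) (hR.anti a b h t),
      fun a b h t u => Prod.ext (hX.add a b h t u) (hR.add a b h t u),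
      fun a b c e h h' h1 h2 h3 h4 t u => Prod.ext (hX.disj a b c e h h' h1 h2 h3 h4 t u).eq
        (hR.disj a b c e h h' h1 h2 h3 h4 t u).eq,
      fun a b h t u => Prod.ext (hX.opp a b h t u).eq (hR.opp a b h t u).eq,
      fun a b c h h' h'' t u => Prod.ext (hX.chain a b c h h' h'' t u) (hR.chain a b c h h' h'' t u)⟩
  let P := OPlusSt.gen Z (fun _ _ => True)
  let Y : Sgn n → Sgn n → F → ↥P := fun a b t =>
    if h : mag a ≠ mag b then ⟨Z a b t, OPlusSt.mem_gen h trivial t⟩ else 1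
  have hYv : ∀ a b, mag a ≠ mag b → ∀ t, ((Y a b t : ↥P) : G × ↥(OPlusSt.Gamma n F)) = Z a b t := fun a b h t => by
    simp [Y, h]
  have hY : OPlusSt.Rels Y := by
    refine ⟨fun a b h t => Subtype.ext ?_, fun a b h t u => Subtype.ext ?_,
      fun a b c e h h' h1 h2 h3 h4 t u => Subtype.ext ?_, fun a b h t u => Subtype.ext ?_,
      fun a b c h h' h'' t u => Subtype.ext ?_⟩
    · rw [hYv _ _ h.symm, hYv _ _ h]; exact hZ.anti a b h t
    · rw [Subgroup.coe_mul, hYv _ _ h, hYv _ _ h, hYv _ _ h]; exact hZ.add a b h t u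
    · rw [Subgroup.coe_mul, Subgroup.coe_mul, hYv _ _ h, hYv _ _ h']
      exact (hZ.disj a b c e h h' h1 h2 h3 h4 t u).eq
    · have h' : mag a ≠ mag (op b) := by rwa [SpPres.mag_op]
      rw [Subgroup.coe_mul, Subgroup.coe_mul, hYv _ _ h, hYv _ _ h']
      exact (hZ.opp a b h t u).eq
    · have hb : mag (op b) ≠ mag c := by rwa [SpPres.mag_op]
      rw [show ((⁅Y a b t, Y (op b) c u⁆ : ↥P).1) = ⁅(Y a b t).1, (Y (op b) c u).1⁆ from
        map_commutatorElement P.subtype _ _, hYv _ _ h, hYv _ _ hb, hYv _ _ h'']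
      exact hZ.chain a b c h h' h'' t u
  let p : ↥P →* ↥(OPlusSt.Gamma n F) := (MonoidHom.snd _ _).comp P.subtype
  let q : ↥P →* G := (MonoidHom.fst _ _).comp P.subtype
  have hp : ∀ a b, mag a ≠ mag b → ∀ t, p (Y a b t) = OPlusSt.XG a b t := fun a b h t => by
    show ((Y a b t : ↥P) : G × ↥(OPlusSt.Gamma n F)).2 = _
    rw [hYv a b h]
  have hgen : OPlusSt.gen Y (fun _ _ => True) = ⊤ := by
    rw [eq_top_iff]
    rintro ⟨g, hg⟩ -
    have key : ∃ hg' : g ∈ P, (⟨g, hg'⟩ : ↥P) ∈ OPlusSt.gen Y (fun _ _ => True) := by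
      induction hg using Subgroup.closure_induction with
      | mem x hx =>
        obtain ⟨a, b, t, hab, -, rfl⟩ := hx
        refine ⟨OPlusSt.mem_gen hab trivial t, ?_⟩
        rw [show (⟨Z a b t, OPlusSt.mem_gen hab trivial t⟩ : ↥P) = Y a b t from Subtype.ext (hYv a b hab t).symm]
        exact OPlusSt.mem_gen hab trivial t
      | one => exact ⟨one_mem _, one_mem _⟩
      | mul x y _ _ hx hy =>
        obtain ⟨hx1, hx2⟩ := hx
        obtain ⟨hy1, hy2⟩ := hy
        exact ⟨mul_mem hx1 hy1, Subgroup.mul_mem _ hx2 hy2⟩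
      | inv x _ hx =>
        obtain ⟨hx1, hx2⟩ := hx
        exact ⟨inv_mem hx1, Subgroup.inv_mem _ hx2⟩
    exact key.2
  have hsur : Function.Surjective p := by
    rw [← MonoidHom.range_eq_top, eq_top_iff, ← OPlusSt.gen_XG, OPlusSt.gen, Subgroup.closure_le]
    rintro _ ⟨a, b, t, hab, -, rfl⟩
    exact ⟨Y a b t, hp a b hab t⟩
  obtain ⟨-, hfin, hle⟩ := OPlusSt.ker_bound hY (φ := (OPlusSt.proj n F).comp p)
    (fun a b hab t => by rw [MonoidHom.comp_apply, hp a b hab]; exact OPlusSt.proj_XG a b hab t) (by omega) hgen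
  obtain ⟨hcard, -⟩ := OPlusSt.card_ker (n := n) (F := F) (by omega)
  have hinj : Function.Injective p := by
    let g : ((OPlusSt.proj n F).comp p).ker → (OPlusSt.proj n F).ker := fun x => ⟨p x.1, x.2⟩
    have hg : Function.Surjective g := fun y => by
      obtain ⟨x, hx⟩ := hsur y.1
      exact ⟨⟨x, by show OPlusSt.proj n F (p x) = 1; rw [hx]; exact y.2⟩, Subtype.ext hx⟩
    have hb := hg.bijective_of_nat_card_le (by rw [hcard]; exact hle.trans OPlusSt.card_roots_le)
    rw [← MonoidHom.ker_eq_bot_iff, Subgroup.eq_bot_iff_forall]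
    intro x hx
    have h1 : x ∈ ((OPlusSt.proj n F).comp p).ker := by
      rw [MonoidHom.mem_ker, MonoidHom.comp_apply, hx, map_one]
    exact congrArg Subtype.val (hb.1 (show g ⟨x, h1⟩ = g 1 from Subtype.ext (hx.trans (map_one p).symm)))
  refine ⟨q.comp (MulEquiv.ofBijective p ⟨hinj, hsur⟩).symm.toMonoidHom, fun a b hab t => ?_⟩
  show q ((MulEquiv.ofBijective p ⟨hinj, hsur⟩).symm (OPlusSt.XG a b t)) = _
  rw [show OPlusSt.XG a b t = MulEquiv.ofBijective p ⟨hinj, hsur⟩ (Y a b t) from (hp a b hab t).symm,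
    MulEquiv.symm_apply_apply]
  show ((Y a b t : ↥P) : G × ↥(OPlusSt.Gamma n F)).1 = _
  rw [hYv a b hab]

end Cfsg.Lib.OPlusPres
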