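import Cfsg.Agent.Known.CurtisTitsD.Base
import Cfsg.Agent.Known.CurtisTitsA.Step
import Cfsg.Agent.Known.SLnPres.Wrap
import Cfsg.Agent.Known.Laws

/-!
# A short generating list for a split Levi subgroup of `SL n`
-/

set_option autoImplicit false
set_option linter.unusedSectionVars false

open scoped commutatorElement
open Matrix
open Cfsg.Lib.StN (T rels_T)
open Cfsg.Lib.Known.CurtisTitsA
open Cfsg.Lib.Known.CurtisTitsD

namespace Cfsg.Lib.OPlusPres

universe u v

/-- A subgroup of a product with full projections is everything when the second factor has only big quotients. -/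
theorem subdirect {A B : Type*} [Group A] [Group B] [Finite A] (K : Subgroup (A × B))
    (h1 : K.map (MonoidHom.fst A B) = ⊤) (h2 : K.map (MonoidHom.snd A B) = ⊤)
    (small : ∀ (N : Subgroup B) [N.Normal], N ≠ ⊤ → Nat.card A < Nat.card (B ⧸ N)) : K = ⊤ := by
  let N : Subgroup B := K.comap (MonoidHom.inr A B)
  haveI : N.Normal := ⟨fun x hx y => by
    obtain ⟨⟨a, y'⟩, hk, rfl⟩ : y ∈ K.map (MonoidHom.snd A B) := h2 ▸ Subgroup.mem_top y
    have := mul_mem (mul_mem hk (show ((1 : A), x) ∈ K from hx)) (inv_mem hk)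
    simpa [N] using this⟩
  have hs : ∀ b : B, ∃ a : A, (a, b) ∈ K := fun b => by
    obtain ⟨⟨a, b'⟩, hk, rfl⟩ : b ∈ K.map (MonoidHom.snd A B) := h2 ▸ Subgroup.mem_top b
    exact ⟨a, hk⟩
  choose s hs using hs
  have hN : N = ⊤ := by
    by_contra hne
    refine absurd (small N hne) (not_lt.2 ?_)
    refine Nat.card_le_card_of_injective (fun q : B ⧸ N => s q.out) fun q q' h => ?_
    rw [← QuotientGroup.out_eq' q, ← QuotientGroup.out_eq' q', QuotientGroup.eq]
    have := mul_mem (inv_mem (hs q.out)) (hs q'.out)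
    simp only [Prod.inv_mk, Prod.mk_mul_mk] at this
    rw [show s q.out = s q'.out from h, inv_mul_cancel] at this
    exact this
  rw [eq_top_iff]
  rintro ⟨a, b⟩ -
  obtain ⟨⟨a', b'⟩, hk, rfl⟩ : a ∈ K.map (MonoidHom.fst A B) := h1 ▸ Subgroup.mem_top a
  have hb : ((1 : A), b'⁻¹ * b) ∈ K := hN.ge (Subgroup.mem_top _)
  simpa using mul_mem hk hb

variable {F : Type v} [Field F] [Fintype F]

/-- A normal subgroup of a perfect special linear group is central or everything. -/
theorem normal_dichotomy {m : ℕ} (hm : 3 ≤ m) (N : Subgroup (SpecialLinearGroup (Fin m) F)) [N.Normal]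
    (hN : N ≠ ⊤) : N ≤ Subgroup.center _ := by
  haveI : IsSimpleGroup (ProjectiveSpecialLinearGroup (Fin m) F) :=
    Classical.isSimpleGroup_PSL_fin (by omega) (by omega)
  haveI : (N.map (QuotientGroup.mk' (Subgroup.center (SpecialLinearGroup (Fin m) F)))).Normal :=
    Subgroup.Normal.map inferInstance _ (QuotientGroup.mk'_surjective _)
  rcases Subgroup.Normal.eq_bot_or_eq_top (H := N.map (QuotientGroup.mk' (Subgroup.center _))) inferInstance with h | h
  · intro x hx
    have := Subgroup.mem_map_of_mem (QuotientGroup.mk' (Subgroup.center (SpecialLinearGroup (Fin m) F))) hx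
    rw [h, Subgroup.mem_bot, QuotientGroup.mk'_apply, QuotientGroup.eq_one_iff] at this
    exact this
  · refine absurd ?_ hN
    rw [eq_top_iff, ← Classical.SL_commutator_eq_top (F := F) (show 3 ≤ Fintype.card (Fin m) by simpa using hm),
      commutator_eq_closure, Subgroup.closure_le]
    rintro _ ⟨x, y, rfl⟩
    obtain ⟨x', hx', ex⟩ : (x : ProjectiveSpecialLinearGroup (Fin m) F) ∈
      N.map (QuotientGroup.mk' (Subgroup.center _)) := h ▸ Subgroup.mem_top _
    rw [QuotientGroup.mk'_apply, QuotientGroup.eq] at ex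
    have hc := Subgroup.mem_center_iff.1 ex y
    rw [show x = x' * (x'⁻¹ * x) by group]
    generalize x'⁻¹ * x = z at hc ⊢
    rw [commutatorElement_def, show x' * z * y * (x' * z)⁻¹ * y⁻¹ = x' * (z * y * z⁻¹) * x'⁻¹ * y⁻¹ by group,
      ← hc, mul_inv_cancel_right, show x' * y * x'⁻¹ * y⁻¹ = x' * (y * x'⁻¹ * y⁻¹) by group]
    exact mul_mem hx' (Subgroup.Normal.conj_mem inferInstance _ (inv_mem hx') y)

theorem card_lt {m : ℕ} (hm : 3 ≤ m) (N : Subgroup (SpecialLinearGroup (Fin m) F)) [N.Normal] (hN : N ≠ ⊤) :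
    Nat.card (SpecialLinearGroup (Fin 2) F) < Nat.card (SpecialLinearGroup (Fin m) F ⧸ N) := by
  classical
  haveI : Nonempty (Fin m) := ⟨⟨0, by omega⟩⟩
  have hle : Nat.card (ProjectiveSpecialLinearGroup (Fin m) F) ≤ Nat.card (SpecialLinearGroup (Fin m) F ⧸ N) :=
    Nat.card_le_card_of_surjective (QuotientGroup.map N (Subgroup.center _) (MonoidHom.id _)
      (normal_dichotomy hm N hN)) fun q => by
        obtain ⟨x, rfl⟩ := QuotientGroup.mk_surjective q
        exact ⟨x, rfl⟩
  refine lt_of_lt_of_le ?_ hle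
  have hP := Classical.gcd_mul_card_PSL (ι := Fin m) (F := F)
  have hS := Classical.card_SL_mul_eq_prod (F := F) (show 1 ≤ m by omega)
  have h2 := Classical.card_SL_mul_eq_prod (F := F) (show 1 ≤ 2 by omega)
  rw [Fin.prod_univ_two] at h2
  have hq : 2 ≤ Fintype.card F := Fintype.one_lt_card
  rw [Nat.card_eq_fintype_card (α := F)] at hP
  set q := Fintype.card F with hqd
  set g := Nat.gcd (Fintype.card (Fin m)) (q - 1)
  have hg : g ≤ q - 1 := Nat.gcd_le_right _ (by omega)
  obtain ⟨k, rfl⟩ : ∃ k, m = k + 3 := ⟨m - 3, by omega⟩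
  rw [Fin.prod_univ_succ, Fin.prod_univ_succ, Fin.prod_univ_succ] at hS
  simp only [Fin.val_zero, Fin.val_succ, pow_zero, zero_add, pow_one, Fin.val_one, one_add_one_eq_two] at hS h2
  have e3 : q ^ 3 ≤ q ^ (k + 3) := Nat.pow_le_pow_right (by omega) (by omega)
  have e2 : q ^ 2 * 2 ≤ q ^ 3 := by rw [pow_succ q 2]; exact Nat.mul_le_mul_left _ hq
  have e1 : q * 2 ≤ q ^ 2 := by rw [pow_two]; exact Nat.mul_le_mul_left _ hq
  have hR : 1 ≤ ∏ i : Fin k, (q ^ (k + 3) - q ^ ((i : ℕ) + 1 + 1 + 1)) := by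
    refine Finset.one_le_prod' fun i _ => ?_
    have : q ^ ((i : ℕ) + 1 + 1 + 1) < q ^ (k + 3) := Nat.pow_lt_pow_right (by omega) (by omega)
    omega
  have a1 : q ^ 2 - 1 < q ^ (k + 3) - 1 := by omega
  have a2 : q ^ 2 - q ≤ q ^ (k + 3) - q := by omega
  have a3 : q - 1 ≤ q ^ (k + 3) - q ^ 2 := by omega
  have a4 : 0 < q ^ 2 - q := by omega
  have key : (q ^ 2 - 1) * ((q ^ 2 - q) * ((q - 1) * 1)) <
      (q - 1) * (g * Nat.card (ProjectiveSpecialLinearGroup (Fin (k + 3)) F)) := by
    rw [hP, hS]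
    exact Nat.mul_lt_mul_of_lt_of_le a1 (Nat.mul_le_mul a2 (Nat.mul_le_mul a3 hR))
      (Nat.mul_pos (by omega) (Nat.mul_pos (by omega) (lt_of_lt_of_le one_pos hR)))
  refine Nat.lt_of_mul_lt_mul_left (a := (q - 1) * (q - 1)) ?_
  calc (q - 1) * (q - 1) * Nat.card (SpecialLinearGroup (Fin 2) F)
      = (q ^ 2 - 1) * ((q ^ 2 - q) * ((q - 1) * 1)) := by rw [mul_assoc, h2]; ring
    _ < _ := key
    _ ≤ _ := by
      rw [mul_assoc]
      exact Nat.mul_le_mul_left _ (Nat.mul_le_mul_right _ hg)

/-- Two generators of the special linear group. -/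
theorem sl_two_gen {m : ℕ} (hm : 2 ≤ m) :
    ∃ a b : SpecialLinearGroup (Fin m) F, Subgroup.closure ({a, b} : Set _) = ⊤ := by
  by_cases hsmall : m = 2 ∧ Fintype.card F ≤ 3
  · obtain ⟨rfl, h3⟩ := hsmall
    refine ⟨T 0 1 1, T 1 0 1, Classical.eq_top_of_transvection_mem _ fun i j hij c => ?_⟩
    set H := Subgroup.closure ({T 0 1 1, T 1 0 1} : Set (SpecialLinearGroup (Fin 2) F))
    have hone : T i j 1 ∈ H := by
      fin_cases i <;> fin_cases j <;> first | exact absurd rfl hij | exact Subgroup.subset_closure (by simp)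
    let S : AddSubgroup F :=
      { carrier := {t | T i j t ∈ H}
        zero_mem' := by show T i j 0 ∈ H; rw [StN.Rels.zero rels_T hij]; exact one_mem _
        add_mem' := fun {x y} hx hy => by show T i j (x + y) ∈ H; rw [← rels_T.add _ _ hij]; exact mul_mem hx hy
        neg_mem' := fun {x} hx => by show T i j (-x) ∈ H; rw [← StN.Rels.inv rels_T hij]; exact inv_mem hx }
    haveI : Fact (Nat.card F).Prime := ⟨by
      have h2 : 2 ≤ Fintype.card F := Fintype.one_lt_card
      rw [Nat.card_eq_fintype_card]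
      interval_cases (Fintype.card F) <;> norm_num⟩
    have hc : c ∈ AddSubgroup.zmultiples (1 : F) := by
      rw [zmultiples_eq_top_of_prime_card (p := Nat.card F) rfl one_ne_zero]; trivial
    have : c ∈ S := (AddSubgroup.zmultiples_le.2 hone : AddSubgroup.zmultiples (1 : F) ≤ S) hc
    rwa [show SpecialLinearGroup.transvection hij c = T i j c by rw [T, dif_pos hij]]
  obtain ⟨x, y, hxy⟩ := SLnPres.psl_two_gen (F := F) m hm
  obtain ⟨a, rfl⟩ := QuotientGroup.mk_surjective x
  obtain ⟨b, rfl⟩ := QuotientGroup.mk_surjective y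
  refine ⟨a, b, ?_⟩
  set H := Subgroup.closure ({a, b} : Set (SpecialLinearGroup (Fin m) F)) with hH
  have hperf : commutator (SpecialLinearGroup (Fin m) F) = ⊤ := by
    rcases eq_or_lt_of_le hm with rfl | h
    · exact Known.sl2_commutator_eq_top F (by omega)
    · exact Classical.SL_commutator_eq_top (by simp; omega)
  have hmap : H.map (QuotientGroup.mk' (Subgroup.center (SpecialLinearGroup (Fin m) F))) = ⊤ := by
    rw [hH, MonoidHom.map_closure, Set.image_pair]; exact hxy
  rw [eq_top_iff, ← hperf, commutator_eq_closure, Subgroup.closure_le]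
  rintro _ ⟨u, w, rfl⟩
  obtain ⟨u', hu, eu⟩ : (u : ProjectiveSpecialLinearGroup (Fin m) F) ∈
    H.map (QuotientGroup.mk' (Subgroup.center _)) := hmap ▸ Subgroup.mem_top _
  obtain ⟨w', hw, ew⟩ : (w : ProjectiveSpecialLinearGroup (Fin m) F) ∈
    H.map (QuotientGroup.mk' (Subgroup.center _)) := hmap ▸ Subgroup.mem_top _
  rw [QuotientGroup.mk'_apply, QuotientGroup.eq] at eu ew
  have hu' := Subgroup.mem_center_iff.1 eu
  have hw' := Subgroup.mem_center_iff.1 ew
  rw [show u = u' * (u'⁻¹ * u) by group, show w = w' * (w'⁻¹ * w) by group]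
  generalize u'⁻¹ * u = z at hu' ⊢
  generalize w'⁻¹ * w = y at hw' ⊢
  have : ⁅u' * z, w' * y⁆ = ⁅u', w'⁆ := by
    rw [commutatorElement_def, commutatorElement_def]
    calc u' * z * (w' * y) * (u' * z)⁻¹ * (w' * y)⁻¹
        = u' * ((w' * y) * z) * (u' * z)⁻¹ * (w' * y)⁻¹ := by rw [hu' (w' * y)]; group
      _ = u' * (w' * y) * u'⁻¹ * (w' * y)⁻¹ := by group
      _ = u' * w' * (y * u'⁻¹) * (w' * y)⁻¹ := by group
      _ = u' * w' * (u'⁻¹ * y) * (w' * y)⁻¹ := by rw [hw' u'⁻¹]
      _ = _ := by group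
  rw [this, commutatorElement_def]
  exact mul_mem (mul_mem (mul_mem hu hw) (inv_mem hu)) (inv_mem hw)

variable {n : ℕ}

/-- The map of special linear groups attached to an injection of indices. -/
theorem exists_emb {m : ℕ} (hm : 2 ≤ m) (hn : 3 ≤ n) (e : Fin m → Fin n) (he : Function.Injective e) :
    ∃ f : SpecialLinearGroup (Fin m) F →* SpecialLinearGroup (Fin n) F,
      ∀ i j, i ≠ j → ∀ t, f (T i j t) = T (e i) (e j) t := by
  have pull : ∀ {N : ℕ} (g : Fin N → Fin n), Function.Injective g →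
      StN.Rels fun i j t => (T (g i) (g j) t : SpecialLinearGroup (Fin n) F) := fun g hg =>
    ⟨fun i j h t u => rels_T.add _ _ (hg.ne h) t u,
      fun i j k l h1 h2 h3 h4 t u => rels_T.disj _ _ _ _ (hg.ne h1) (hg.ne h2) (hg.ne h3) (hg.ne h4) t u,
      fun i j l h1 h2 h3 t u => rels_T.comm _ _ _ (hg.ne h1) (hg.ne h2) (hg.ne h3) t u⟩
  rcases eq_or_lt_of_le hm with rfl | hm3
  · obtain ⟨c, hc⟩ : ∃ c, c ∉ Finset.univ.image e := by
      by_contra h
      push Not at h
      have := Finset.card_le_card (s := (Finset.univ : Finset (Fin n))) (t := Finset.univ.image e) fun x _ => h x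
      have := Finset.card_image_le (s := (Finset.univ : Finset (Fin 2))) (f := e)
      simp at *
      omega
    simp only [Finset.mem_image, Finset.mem_univ, true_and, not_exists] at hc
    have hg : Function.Injective ![e 0, e 1, c] := inj_three (he.ne (by decide)) (hc 0) (hc 1)
    obtain ⟨f, hf⟩ := exists_hom_of_rels (le_refl 3) (pull _ hg)
    refine ⟨f.comp (embL (M := 2)), fun i j hij t => ?_⟩
    rw [MonoidHom.comp_apply, embL_T hij, hf _ _ ((Fin.castSucc_injective 2).ne hij)]
    fin_cases i <;> fin_cases j <;> rfl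
  · exact exists_hom_of_rels hm3 (pull e he)

/-- Same side of the split. -/
def Side (R a i j : Fin n) : Prop :=
  ((i = R ∨ i = a) ∧ (j = R ∨ j = a)) ∨ ((i ≠ R ∧ i ≠ a) ∧ (j ≠ R ∧ j ≠ a))

/-- The split Levi subgroup. -/
def Levi (F : Type v) [Field F] (R a : Fin n) : Subgroup (SpecialLinearGroup (Fin n) F) :=
  Subgroup.closure {g | ∃ i j t, i ≠ j ∧ Side R a i j ∧ g = T i j t}

theorem range_le_levi {R a : Fin n} {m : ℕ} (f : SpecialLinearGroup (Fin m) F →* SpecialLinearGroup (Fin n) F)
    (e : Fin m → Fin n) (he : Function.Injective e) (hf : ∀ i j, i ≠ j → ∀ t, f (T i j t) = T (e i) (e j) t)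
    (hs : ∀ i j, Side R a (e i) (e j)) (x : SpecialLinearGroup (Fin m) F) : f x ∈ Levi F R a := by
  have : (Levi F R a).comap f = ⊤ := Classical.eq_top_of_transvection_mem _ fun i j hij c => by
    rw [show SpecialLinearGroup.transvection hij c = T i j c by rw [T, dif_pos hij], Subgroup.mem_comap, hf i j hij]
    exact Subgroup.subset_closure ⟨_, _, c, he.ne hij, hs i j, rfl⟩
  exact this.ge (Subgroup.mem_top x)

/-- The generating list. -/
theorem levi_list (hn : 4 ≤ n) {R a : Fin n} (hRa : R ≠ a) :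
    ∃ L : List (SpecialLinearGroup (Fin n) F), L.length ≤ (if n = 4 then 4 else 2) ∧
      Subgroup.closure {x | x ∈ L} = Levi F R a := by
  classical
  obtain ⟨m, e, he, hm, hrange⟩ : ∃ (m : ℕ) (e : Fin m → Fin n), Function.Injective e ∧ m + 2 = n ∧
      ∀ i, (i ≠ R ∧ i ≠ a) ↔ ∃ p, e p = i := by
    let S : Finset (Fin n) := ({R, a} : Finset (Fin n))ᶜ
    refine ⟨S.card, S.orderEmbOfFin rfl, (S.orderEmbOfFin rfl).injective, ?_, fun i => ?_⟩
    · rw [Finset.card_compl, Fintype.card_fin, Finset.card_pair hRa]; omega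
    · have h := Set.ext_iff.1 (Finset.range_orderEmbOfFin S rfl) i
      rw [Set.mem_range] at h
      rw [h]
      simp [S, and_comm]
  have hother : ∀ p, e p ≠ R ∧ e p ≠ a := fun p => (hrange _).2 ⟨p, rfl⟩
  obtain ⟨ι, hι⟩ := exists_emb (F := F) (n := n) (m := 2) le_rfl (by omega) ![R, a]
    (by intro i j; fin_cases i <;> fin_cases j <;> simp [hRa, hRa.symm])
  obtain ⟨κ, hκ⟩ := exists_emb (F := F) (n := n) (m := m) (by omega) (by omega) e he
  have hιmem : ∀ x, ι x ∈ Levi F R a := range_le_levi ι _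
    (by intro i j; fin_cases i <;> fin_cases j <;> simp [hRa, hRa.symm]) hι
    fun i j => Or.inl (by fin_cases i <;> fin_cases j <;> simp)
  have hκmem : ∀ x, κ x ∈ Levi F R a := range_le_levi κ e he hκ fun i j => Or.inr ⟨hother i, hother j⟩
  have cover : ∀ H : Subgroup (SpecialLinearGroup (Fin n) F), (∀ x, ι x ∈ H) → (∀ x, κ x ∈ H) → Levi F R a ≤ H := by
    intro H h1 h2
    rw [Levi, Subgroup.closure_le]
    rintro _ ⟨i, j, t, hij, ⟨hi, hj⟩ | ⟨hi, hj⟩, rfl⟩
    · rcases hi with rfl | rfl <;> rcases hj with rfl | rfl <;> first | exact absurd rfl hij | skip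
      · rw [show T i j t = ι (T 0 1 t) from (hι 0 1 (by decide) t).symm]; exact h1 _
      · rw [show T i j t = ι (T 1 0 t) from (hι 1 0 (by decide) t).symm]; exact h1 _
    · obtain ⟨p, rfl⟩ := (hrange i).1 hi
      obtain ⟨q, rfl⟩ := (hrange j).1 hj
      rw [← hκ p q (fun e' => hij (congrArg e e')) t]
      exact h2 _
  obtain ⟨a1, b1, h1⟩ := sl_two_gen (F := F) (le_refl 2)
  obtain ⟨c1, d1, h2⟩ := sl_two_gen (F := F) (m := m) (by omega)
  by_cases h4 : n = 4
  · refine ⟨[ι a1, ι b1, κ c1, κ d1], by simp [h4], le_antisymm ?_ ?_⟩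
    · rw [Subgroup.closure_le]
      intro x hx
      simp only [Set.mem_setOf_eq, List.mem_cons, List.not_mem_nil, or_false] at hx
      rcases hx with rfl | rfl | rfl | rfl
      exacts [hιmem _, hιmem _, hκmem _, hκmem _]
    · set H := Subgroup.closure {x | x ∈ [ι a1, ι b1, κ c1, κ d1]}
      refine cover H ?_ ?_
      · have : H.comap ι = ⊤ := by
          rw [eq_top_iff, ← h1, Subgroup.closure_le]
          rintro x (rfl | rfl) <;> exact Subgroup.subset_closure (by simp)
        exact fun x => this.ge (Subgroup.mem_top x)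
      · have : H.comap κ = ⊤ := by
          rw [eq_top_iff, ← h2, Subgroup.closure_le]
          rintro x (rfl | rfl) <;> exact Subgroup.subset_closure (by simp)
        exact fun x => this.ge (Subgroup.mem_top x)
  have comm : ∀ x y, Commute (ι x) (κ y) := by
    have hT : ∀ (i j : Fin 2) (p q : Fin m), i ≠ j → p ≠ q → ∀ t u, Commute (ι (T i j t)) (κ (T p q u)) := by
      intro i j p q hij hpq t u
      rw [hι i j hij, hκ p q hpq]
      have hRaij : ∀ k : Fin 2, (![R, a] k = R ∨ ![R, a] k = a) := fun k => by fin_cases k <;> simp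
      have ne : ∀ (k : Fin 2) (l : Fin m), ![R, a] k ≠ e l := fun k l h => by
        rcases hRaij k with h' | h'
        · exact (hother l).1 (h.symm.trans h')
        · exact (hother l).2 (h.symm.trans h')
      exact rels_T.disj _ _ _ _ (by fin_cases i <;> fin_cases j <;> simp_all [hRa.symm]) (he.ne hpq) (ne i q)
        (ne j p) t u
    intro x y
    have hy : ∀ (i j : Fin 2), i ≠ j → ∀ t, Commute (ι (T i j t)) (κ y) := fun i j hij t => by
      have : (Subgroup.centralizer {ι (T i j t)}).comap κ = ⊤ :=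
        Classical.eq_top_of_transvection_mem _ fun p q hpq u => by
          rw [show SpecialLinearGroup.transvection hpq u = T p q u by rw [T, dif_pos hpq], Subgroup.mem_comap,
            Subgroup.mem_centralizer_singleton_iff]
          exact (hT i j p q hij hpq t u).eq.symm
      have h := this.ge (Subgroup.mem_top y)
      rw [Subgroup.mem_comap, Subgroup.mem_centralizer_singleton_iff] at h
      exact h.symm
    have : (Subgroup.centralizer {κ y}).comap ι = ⊤ :=
      Classical.eq_top_of_transvection_mem _ fun i j hij t => by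
        rw [show SpecialLinearGroup.transvection hij t = T i j t by rw [T, dif_pos hij], Subgroup.mem_comap,
          Subgroup.mem_centralizer_singleton_iff]
        exact (hy i j hij t).eq
    have h := this.ge (Subgroup.mem_top x)
    rw [Subgroup.mem_comap, Subgroup.mem_centralizer_singleton_iff] at h
    exact h
  let Φ := MonoidHom.noncommCoprod ι κ comm
  have hK : Subgroup.closure ({(a1, c1), (b1, d1)} : Set (SpecialLinearGroup (Fin 2) F ×
      SpecialLinearGroup (Fin m) F)) = ⊤ := by
    refine subdirect _ ?_ ?_ fun N _ hN => card_lt (by omega) N hN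
    · rw [MonoidHom.map_closure, Set.image_pair]; exact h1
    · rw [MonoidHom.map_closure, Set.image_pair]; exact h2
  refine ⟨[Φ (a1, c1), Φ (b1, d1)], by simp [h4], le_antisymm ?_ ?_⟩
  · rw [Subgroup.closure_le]
    intro x hx
    simp only [Set.mem_setOf_eq, List.mem_cons, List.not_mem_nil, or_false] at hx
    rcases hx with rfl | rfl <;> exact mul_mem (hιmem _) (hκmem _)
  · set H := Subgroup.closure {x | x ∈ [Φ (a1, c1), Φ (b1, d1)]}
    have : H.comap Φ = ⊤ := by
      rw [eq_top_iff, ← hK, Subgroup.closure_le]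
      rintro x (rfl | rfl) <;> exact Subgroup.subset_closure (by simp)
    refine cover H (fun x => ?_) fun x => ?_
    · have h := this.ge (Subgroup.mem_top ((x, 1) : _ × _))
      rw [Subgroup.mem_comap, MonoidHom.noncommCoprod_apply, map_one, mul_one] at h
      exact h
    · have h := this.ge (Subgroup.mem_top ((1, x) : _ × _))
      rw [Subgroup.mem_comap, MonoidHom.noncommCoprod_apply, map_one, one_mul] at h
      exact h

end Cfsg.Lib.OPlusPres
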