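import Cfsg.Agent.Known.OPlusPres.Local
import Cfsg.Agent.Known.OPlusPres.Cover

/-!
# The relations determine the derived split orthogonal group
-/

set_option autoImplicit false
set_option linter.unusedSectionVars false
set_option linter.unusedSimpArgs false

open scoped commutatorElement
open Matrix
open Cfsg.Lib.Known.CurtisTitsA
open Cfsg.Lib.Known.CurtisTitsD
open Cfsg.Lib.SpPres (Sgn op mag)

namespace Cfsg.Lib.OPlusPres

universe u v

/-- Root systems agreeing on the mixed roots and at one pair are equal. -/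
theorem rels_unique {n : ℕ} {F : Type v} [Field F] {G : Type u} [Group G] {X Y : Sgn n → Sgn n → F → G}
    (hX : OPlusSt.Rels X) (hY : OPlusSt.Rels Y) {s R : Fin n} (hsR : s ≠ R)
    (mixed : ∀ i j : Fin n, i ≠ j → ∀ t, X (Sum.inl i) (Sum.inr j) t = Y (Sum.inl i) (Sum.inr j) t)
    (basel : ∀ t, X (Sum.inl s) (Sum.inl R) t = Y (Sum.inl s) (Sum.inl R) t)
    (baser : ∀ t, X (Sum.inr s) (Sum.inr R) t = Y (Sum.inr s) (Sum.inr R) t) :
    ∀ a b, mag a ≠ mag b → ∀ t, X a b t = Y a b t := by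
  have mixed' : ∀ i j : Fin n, i ≠ j → ∀ t, X (Sum.inr i) (Sum.inl j) t = Y (Sum.inr i) (Sum.inl j) t :=
    fun i j h t => by
      rw [hX.anti (Sum.inl j) (Sum.inr i) h.symm, hY.anti (Sum.inl j) (Sum.inr i) h.symm, mixed j i h.symm]
  have step : ∀ (Q : Fin n → Sgn n) (Q' : Fin n → Sgn n), (∀ i, mag (Q i) = i) → (∀ i, op (Q i) = Q' i) →
      (∀ i j, i ≠ j → ∀ t, X (Q i) (Q' j) t = Y (Q i) (Q' j) t) →
      (∀ t, X (Q s) (Q R) t = Y (Q s) (Q R) t) →
      ∀ i j, i ≠ j → ∀ t, X (Q i) (Q j) t = Y (Q i) (Q j) t := by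
    intro Q Q' hm hop hmix hbase
    have hm' : ∀ i, mag (Q' i) = i := fun i => by rw [← hop, SpPres.mag_op, hm]
    have hop' : ∀ i, op (Q' i) = Q i := fun i => by rw [← hop, SpPres.op_op]
    have ch : ∀ i m j : Fin n, i ≠ m → m ≠ j → i ≠ j → (∀ t, X (Q m) (Q j) t = Y (Q m) (Q j) t) →
        ∀ t, X (Q i) (Q j) t = Y (Q i) (Q j) t := by
      intro i m j him hmj hij h t
      have e1 := hX.chain (Q i) (Q' m) (Q j) (by rw [hm, hm']; exact him) (by rw [hm', hm]; exact hmj)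
        (by rw [hm, hm]; exact hij) 1 t
      have e2 := hY.chain (Q i) (Q' m) (Q j) (by rw [hm, hm']; exact him) (by rw [hm', hm]; exact hmj)
        (by rw [hm, hm]; exact hij) 1 t
      rw [hop', one_mul] at e1 e2
      rw [← e1, ← e2, hmix i m him, h]
    have anti : ∀ i j, i ≠ j → (∀ t, X (Q i) (Q j) t = Y (Q i) (Q j) t) →
        ∀ t, X (Q j) (Q i) t = Y (Q j) (Q i) t := fun i j hij h t => by
      rw [hX.anti _ _ (by rwa [hm, hm]), hY.anti _ _ (by rwa [hm, hm]), h]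
    have toR : ∀ i, i ≠ R → ∀ t, X (Q i) (Q R) t = Y (Q i) (Q R) t := fun i hiR => by
      rcases eq_or_ne i s with rfl | his
      · exact hbase
      · exact ch i s R his hsR hiR hbase
    intro i j hij
    rcases eq_or_ne j R with rfl | hjR
    · exact toR i hij
    rcases eq_or_ne i R with rfl | hiR
    · exact anti j i hij.symm (toR j hjR)
    · exact ch i R j hiR hjR.symm hij (anti j R hjR (toR j hjR))
  rintro (i | i) (j | j) h <;> replace h : i ≠ j := h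
  · exact step Sum.inl Sum.inr (fun _ => rfl) (fun _ => rfl) mixed basel i j h
  · exact mixed i j h
  · exact mixed' i j h
  · exact step Sum.inr Sum.inl (fun _ => rfl) (fun _ => rfl) mixed' baser i j h

/-- The relations. -/
structure Data (n : ℕ) (F : Type v) [Field F] (G : Type u) [Group G] where
  /-- The map on `SL n`. -/
  f : SpecialLinearGroup (Fin n) F →* G
  /-- The Weyl element. -/
  r : G
  /-- The map to the orthogonal group. -/
  φ : G →* ↥(OPlusSt.O n F)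
  /-- Fourth last index. -/
  a : Fin n
  /-- Third last index. -/
  k : Fin n
  /-- Second last index. -/
  s : Fin n
  /-- Last index. -/
  R : Fin n
  ha : a.val + 4 = n
  hk : k.val + 3 = n
  hs : s.val + 2 = n
  hR : R.val + 1 = n
  φf : ∀ i j, i ≠ j → ∀ t, φ (f (StN.T i j t)) = OPlusSt.T (Sum.inl i) (Sum.inr j) t
  φr : φ r = OPlusSt.W OPlusSt.T (Sum.inl R) (Sum.inl a) 1
  gen : Subgroup.closure (Set.range f ∪ {r}) = ⊤
  com : ∀ i j : Fin n, i ≠ j → (((i = R ∨ i = a) ∧ (j = R ∨ j = a)) ∨ ((i ≠ R ∧ i ≠ a) ∧ (j ≠ R ∧ j ≠ a))) →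
    ∀ t, Commute r (f (StN.T i j t))
  g_rel : Commute (f (StN.W StN.T R s ((1 : Fˣ) : F) * StN.W StN.T a k ((1 : Fˣ) : F)))
    (r * f (StN.T s a 1) * r⁻¹)
  g_rel' : Commute (f (tau (StN.W StN.T R s ((1 : Fˣ) : F) * StN.W StN.T a k ((1 : Fˣ) : F))))
    (r * f (tau (StN.T s a 1)) * r⁻¹)
  four : n = 4 → Commute (f (StN.T a k 1)) (r * f (StN.T s a 1) * r⁻¹)
  parity : ((2 : F) ≠ 0 ∧ r * r = f (Loc.hW R a (-1))) ∨
    ((2 : F) = 0 ∧ Commute (f (StN.T R s 1)) (r * f (StN.T s a 1) * r⁻¹))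
  weyl : r = f (StN.W StN.T a s ((1 : Fˣ) : F)) * (r * f (StN.T s a (-1)) * r⁻¹) *
      (f (StN.W StN.T a s ((1 : Fˣ) : F)))⁻¹ *
    (r * (f (StN.W StN.T a s ((1 : Fˣ) : F)) * (r * f (StN.T s a (-1)) * r⁻¹) *
      (f (StN.W StN.T a s ((1 : Fˣ) : F)))⁻¹) * r⁻¹) *
    (f (StN.W StN.T a s ((1 : Fˣ) : F)) * (r * f (StN.T s a (-1)) * r⁻¹) *
      (f (StN.W StN.T a s ((1 : Fˣ) : F)))⁻¹)

variable {n : ℕ} {F : Type v} [Field F] {G : Type u} [Group G] (E : Data n F G)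

namespace Data

theorem ne_Ra : E.R ≠ E.a := Fin.ne_of_val_ne (by have := E.ha; have := E.hR; omega)
theorem ne_Rs : E.R ≠ E.s := Fin.ne_of_val_ne (by have := E.hs; have := E.hR; omega)
theorem ne_Rk : E.R ≠ E.k := Fin.ne_of_val_ne (by have := E.hk; have := E.hR; omega)
theorem ne_as : E.a ≠ E.s := Fin.ne_of_val_ne (by have := E.ha; have := E.hs; omega)
theorem ne_ak : E.a ≠ E.k := Fin.ne_of_val_ne (by have := E.ha; have := E.hk; omega)
theorem ne_sk : E.s ≠ E.k := Fin.ne_of_val_ne (by have := E.hk; have := E.hs; omega)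

/-- The local data. -/
def loc : Loc n F G where
  f := E.f
  r := E.r
  R := E.R
  A := E.a
  S := E.s
  K := E.k
  RA := E.ne_Ra
  RS := E.ne_Rs
  RK := E.ne_Rk
  AS := E.ne_as
  AK := E.ne_ak
  SK := E.ne_sk
  com := E.com

/-- The inverse transpose of the local data. -/
def loc' : Loc n F G where
  f := E.f.comp tau
  r := E.r
  R := E.R
  A := E.a
  S := E.s
  K := E.k
  RA := E.ne_Ra
  RS := E.ne_Rs
  RK := E.ne_Rk
  AS := E.ne_as
  AK := E.ne_ak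
  SK := E.ne_sk
  com i j hij h t := by
    rw [MonoidHom.comp_apply, tau_T hij]
    exact E.com j i hij.symm (Or.imp (fun p => ⟨p.2, p.1⟩) (fun p => ⟨p.2, p.1⟩) h) _

theorem side_Ra : ((E.R = E.R ∨ E.R = E.a) ∧ (E.a = E.R ∨ E.a = E.a)) ∨
    ((E.R ≠ E.R ∧ E.R ≠ E.a) ∧ (E.a ≠ E.R ∧ E.a ≠ E.a)) := Or.inl ⟨Or.inl rfl, Or.inr rfl⟩

/-- Elements commuting with the Weyl element pass through it. -/
theorem pass {c : SpecialLinearGroup (Fin n) F} (h : Commute E.r (E.f c)) (x : SpecialLinearGroup (Fin n) F) :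
    E.f c * (E.r * E.f x * E.r⁻¹) * (E.f c)⁻¹ = E.r * E.f (c * x * c⁻¹) * E.r⁻¹ := by
  rw [map_mul, map_mul, map_inv]
  calc E.f c * (E.r * E.f x * E.r⁻¹) * (E.f c)⁻¹
      = (E.f c * E.r) * E.f x * (E.f c * E.r)⁻¹ := by group
    _ = (E.r * E.f c) * E.f x * (E.r * E.f c)⁻¹ := by rw [h.eq]
    _ = _ := by group

theorem weyl_sq : E.r * E.r = E.f (Loc.hW E.R E.a (-1)) := by
  rcases E.parity with ⟨-, h⟩ | ⟨h2, -⟩
  · exact h
  have hm1 : (-1 : Fˣ) = 1 := Units.ext (by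
    rw [Units.val_neg, Units.val_one]; linear_combination (-1 : F) * h2)
  rw [hm1, Loc.hW, mul_inv_cancel, map_one]
  set p := E.f (StN.W StN.T E.a E.s ((1 : Fˣ) : F)) * (E.r * E.f (StN.T E.s E.a (-1)) * E.r⁻¹) *
      (E.f (StN.W StN.T E.a E.s ((1 : Fˣ) : F)))⁻¹ with hp
  have hpp : p * p = 1 := by
    rw [hp, ← StN.mul_conj, conj_mul, ← map_mul, StN.rels_T.add _ _ E.ne_as.symm,
      show (-1 : F) + -1 = 0 by linear_combination (-1 : F) * h2, StN.Rels.zero StN.rels_T E.ne_as.symm, map_one]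
    group
  have hw : E.r = p * (E.r * p * E.r⁻¹) * p := E.weyl
  have hpi : p⁻¹ = p := inv_eq_of_mul_eq_one_right hpp
  have h1 : E.r * p * E.r⁻¹ = p * E.r * p := by
    conv_rhs => rw [hw]
    calc E.r * p * E.r⁻¹ = (p * p) * (E.r * p * E.r⁻¹) * (p * p) := by rw [hpp]; group
      _ = _ := by group
  have h2' : E.r * p = p * E.r * (p * E.r) := by
    rw [show p * E.r * (p * E.r) = p * E.r * p * E.r by group, ← h1]; group
  have h3 : p * E.r * (p * E.r) = p * (p * E.r) * p := by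
    rw [← h2', show p * (p * E.r) * p = p * p * E.r * p by group, hpp, one_mul]
  set q := p * E.r with hq
  have h4 : q * q * (q * q) = q := by
    rw [h3, show p * q * p * (p * q * p) = p * (q * (p * p) * q) * p by group, hpp, mul_one, h3,
      show p * (p * q * p) * p = (p * p) * q * (p * p) by group, hpp, one_mul, mul_one]
  have h5 : q * q * q = 1 := mul_eq_left.mp ((show q * (q * q * q) = q * q * (q * q) by group).trans h4)
  rw [show E.r = p * q by rw [hq, ← mul_assoc, hpp, one_mul]]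
  calc p * q * (p * q) = p * q * p * q := by group
    _ = 1 := by rw [← h3, h5]

theorem sq_conj (x : SpecialLinearGroup (Fin n) F) :
    E.r * (E.r * E.f x * E.r⁻¹) * E.r⁻¹ = E.f (Loc.hW E.R E.a (-1) * x * (Loc.hW E.R E.a (-1))⁻¹) := by
  rw [show E.r * (E.r * E.f x * E.r⁻¹) * E.r⁻¹ = (E.r * E.r) * E.f x * (E.r * E.r)⁻¹ by group, weyl_sq,
    map_mul, map_mul, map_inv]

variable [Finite F]

theorem opp_hyp : (2 : F) ≠ 0 ∨ Commute (E.loc.f (StN.T E.loc.R E.loc.S 1)) (E.loc.P 1) := by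
  rcases E.parity with ⟨h, -⟩ | ⟨-, h⟩
  exacts [Or.inl h, Or.inr h]

theorem com_one {i j : Fin n} (hij : i ≠ j)
    (h : ((i ≠ E.R ∧ i ≠ E.s) ∧ (j ≠ E.R ∧ j ≠ E.s)) ∨ ((i = E.R ∨ i = E.s) ∧ (j = E.R ∨ j = E.s))) (t u : F) :
    Commute (E.f (StN.T i j t)) (E.r * E.f (StN.T E.s E.a u) * E.r⁻¹) :=
  Loc.com_root E.loc E.g_rel E.four E.opp_hyp hij h t u

/-- A mirrored commutation. -/
theorem mirror (c : SpecialLinearGroup (Fin n) F) (hc : Commute E.r (E.f c)) (x : SpecialLinearGroup (Fin n) F)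
    (u : F) (h : Commute (E.f x) (E.r * E.f (StN.T E.s E.a u) * E.r⁻¹)) :
    Commute (E.f (c * (Loc.hW E.R E.a (-1) * StN.T E.s E.a u * (Loc.hW E.R E.a (-1))⁻¹) * c⁻¹))
      (E.r * E.f (c * x * c⁻¹) * E.r⁻¹) := by
  have h1 := (Commute.conj_iff E.r).2 h
  rw [sq_conj] at h1
  have h2 := (Commute.conj_iff (E.f c)).2 h1
  rw [E.pass hc, ← map_inv, ← map_mul, ← map_mul] at h2
  exact h2.symm

theorem com_two {i j : Fin n} (hij : i ≠ j)
    (h : ((i ≠ E.R ∧ i ≠ E.s) ∧ (j ≠ E.R ∧ j ≠ E.s)) ∨ ((i = E.R ∨ i = E.s) ∧ (j = E.R ∨ j = E.s))) (t u : F) :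
    Commute (E.f (StN.T i j t)) (E.r * E.f (StN.T E.a E.s u) * E.r⁻¹) := by
  have hh := mon_hh (F := F) E.ne_Ra (-1)
  have four' : n = 4 → Commute (E.loc'.f (StN.T E.loc'.A E.loc'.K 1)) (E.loc'.P 1) := by
    intro _
    have hW := mon_W (F := F) E.ne_sk 1
    have hc : Commute E.r (E.f (StN.W StN.T E.s E.k ((1 : Fˣ) : F))) := E.loc.com_W E.ne_sk E.loc.side_SK _
    have key : ∀ v w, Commute (E.f (StN.T E.k E.a v)) (E.r * E.f (StN.T E.a E.s w) * E.r⁻¹) := fun v w => by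
      have := E.mirror _ hc (StN.T E.a E.k w) v (E.com_one E.ne_ak
        (Or.inl ⟨⟨E.ne_Ra.symm, E.ne_as⟩, ⟨E.ne_Rk.symm, E.ne_sk.symm⟩⟩) w v)
      rw [Loc.hW, hh.conj_T E.ne_as.symm, Equiv.Perm.one_apply, Equiv.Perm.one_apply, hW.conj_T E.ne_as.symm,
        hW.conj_T E.ne_ak] at this
      simpa [Equiv.swap_apply_of_ne_of_ne, E.ne_Ra, E.ne_Ra.symm, E.ne_Rs.symm, E.ne_as, E.ne_as.symm, E.ne_ak,
        E.ne_ak.symm, E.ne_sk, E.ne_sk.symm, inv_neg] using this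
    show Commute (E.f (tau (StN.T E.a E.k 1))) (E.r * E.f (tau (StN.T E.s E.a 1)) * E.r⁻¹)
    rw [tau_T E.ne_ak, tau_T E.ne_as.symm]
    exact key _ _
  have opp' : (2 : F) ≠ 0 ∨ Commute (E.loc'.f (StN.T E.loc'.R E.loc'.S 1)) (E.loc'.P 1) := by
    refine Or.inr ?_
    have hW := mon_W (F := F) E.ne_Ra 1
    have hc : Commute E.r (E.f (StN.W StN.T E.R E.a ((1 : Fˣ) : F))) := E.loc.com_W E.ne_Ra E.loc.side_RA _
    have key : ∀ v w, Commute (E.f (StN.T E.s E.R v)) (E.r * E.f (StN.T E.a E.s w) * E.r⁻¹) := fun v w => by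
      have := E.mirror _ hc (StN.T E.R E.s (-w)) (-v) (E.com_one E.ne_Rs (Or.inr ⟨Or.inl rfl, Or.inr rfl⟩) (-w) (-v))
      rw [Loc.hW, hh.conj_T E.ne_as.symm, Equiv.Perm.one_apply, Equiv.Perm.one_apply, hW.conj_T E.ne_as.symm,
        hW.conj_T E.ne_Rs] at this
      simpa [Equiv.swap_apply_of_ne_of_ne, E.ne_Ra, E.ne_Ra.symm, E.ne_Rs, E.ne_Rs.symm, E.ne_as, E.ne_as.symm,
        inv_neg] using this
    show Commute (E.f (tau (StN.T E.R E.s 1))) (E.r * E.f (tau (StN.T E.s E.a 1)) * E.r⁻¹)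
    rw [tau_T E.ne_Rs, tau_T E.ne_as.symm]
    exact key _ _
  have h' : ((j ≠ E.R ∧ j ≠ E.s) ∧ (i ≠ E.R ∧ i ≠ E.s)) ∨ ((j = E.R ∨ j = E.s) ∧ (i = E.R ∨ i = E.s)) :=
    Or.imp (fun p => ⟨p.2, p.1⟩) (fun p => ⟨p.2, p.1⟩) h
  have := Loc.com_root E.loc' E.g_rel' four' opp' hij.symm h' (-t) (-u)
  change Commute (E.f (tau (StN.T j i (-t)))) (E.r * E.f (tau (StN.T E.s E.a (-u))) * E.r⁻¹) at this
  rwa [tau_T hij.symm, tau_T E.ne_as.symm, neg_neg, neg_neg] at this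

theorem inj_ksa : Function.Injective ![E.k, E.s, E.a] :=
  inj_three E.ne_sk.symm E.ne_ak.symm E.ne_as.symm

theorem psi_rels : StN.Rels fun i j t => E.r * E.f (StN.T (![E.k, E.s, E.a] i) (![E.k, E.s, E.a] j) t) * E.r⁻¹ := by
  have R := StN.rels_T (n := n) (F := F)
  have ne : ∀ {i j : Fin 3}, i ≠ j → (![E.k, E.s, E.a] i) ≠ (![E.k, E.s, E.a] j) := fun h => E.inj_ksa.ne h
  refine ⟨fun i j hij t u => ?_, fun i j p q hij hpq hiq hjp t u => ?_, fun i j l hij hjl hil t u => ?_⟩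
  · rw [conj_mul, ← map_mul, R.add _ _ (ne hij)]
  · exact (Commute.conj_iff _).2 ((R.disj _ _ _ _ (ne hij) (ne hpq) (ne hiq) (ne hjp) t u).map E.f)
  · rw [← conjugate_commutatorElement, ← map_commutatorElement, R.comm _ _ _ (ne hij) (ne hjl) (ne hil)]

/-- The map on the edge. -/
noncomputable def psi : SpecialLinearGroup (Fin 3) F →* G :=
  (exists_hom_of_rels (le_refl 3) E.psi_rels).choose

theorem psi_T {i j : Fin 3} (h : i ≠ j) (t : F) :
    E.psi (StN.T i j t) = E.r * E.f (StN.T (![E.k, E.s, E.a] i) (![E.k, E.s, E.a] j) t) * E.r⁻¹ :=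
  (exists_hom_of_rels (le_refl 3) E.psi_rels).choose_spec i j h t

/-- The amalgam. -/
noncomputable def half : Half n F G where
  f := E.f
  ψ := E.psi
  a := E.a
  k := E.k
  s := E.s
  r := E.R
  ha := E.ha
  hk := E.hk
  hs := E.hs
  hr := E.hR
  up t := by
    rw [E.psi_T (by decide)]
    show E.r * E.f (StN.T E.k E.s t) * E.r⁻¹ = _
    rw [(E.com E.k E.s E.ne_sk.symm (Or.inr ⟨⟨E.ne_Rk.symm, E.ne_ak.symm⟩, ⟨E.ne_Rs.symm, E.ne_as.symm⟩⟩) t).eq,
      mul_inv_cancel_right]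
  down t := by
    rw [E.psi_T (by decide)]
    show E.r * E.f (StN.T E.s E.k t) * E.r⁻¹ = _
    rw [(E.com E.s E.k E.ne_sk (Or.inr ⟨⟨E.ne_Rs.symm, E.ne_as.symm⟩, ⟨E.ne_Rk.symm, E.ne_ak.symm⟩⟩) t).eq,
      mul_inv_cancel_right]
  com i j hij h t u := by
    have h' : ((i ≠ E.R ∧ i ≠ E.s) ∧ (j ≠ E.R ∧ j ≠ E.s)) ∨ ((i = E.R ∨ i = E.s) ∧ (j = E.R ∨ j = E.s)) := by
      have := E.hs
      have := E.hR
      have := i.isLt
      have := j.isLt
      simp only [Fin.ext_iff, ne_eq]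
      omega
    rw [E.psi_T (by decide), E.psi_T (by decide)]
    exact ⟨E.com_one hij h' t u, E.com_two hij h' t u⟩

/-- The root elements. -/
noncomputable def X : Sgn n → Sgn n → F → G := E.half.X

theorem rels_X : OPlusSt.Rels E.X := E.half.rels_X

theorem X_mixed (i j : Fin n) (t : F) : E.X (Sum.inl i) (Sum.inr j) t = E.f (StN.T i j t) := rfl

theorem X_base (t : F) : E.X (Sum.inl E.s) (Sum.inl E.R) t = E.r * E.f (StN.T E.s E.a t) * E.r⁻¹ := by
  show E.half.Y E.half.s E.half.r t = _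
  rw [Half.Y_base]
  exact E.psi_T (i := 1) (j := 2) (by decide) t

theorem X_base' (t : F) : E.X (Sum.inr E.s) (Sum.inr E.R) t = E.r * E.f (StN.T E.a E.s (-t)) * E.r⁻¹ := by
  show E.half.dual.Y E.half.s E.half.r t = _
  rw [Half.dual_Y_sr]
  exact E.psi_T (i := 2) (j := 1) (by decide) _

theorem φX : ∀ a b, mag a ≠ mag b → ∀ t, E.φ (E.X a b t) = OPlusSt.T a b t := by
  have hn : 4 ≤ n := by have := E.ha; omega
  have h := E.rels_X
  have RT := OPlusSt.rels_T (n := n) (F := F)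
  have hne : mag (Sum.inl E.R : Sgn n) ≠ mag (Sum.inl E.a : Sgn n) := E.ne_Ra
  have hP : OPlusSt.Rels fun a b t => E.φ (E.X a b t) :=
    ⟨fun a b hab t => congrArg E.φ (h.anti a b hab t),
      fun a b hab t u => by rw [← map_mul, h.add a b hab],
      fun a b c e hab hce h1 h2 h3 h4 t u => (h.disj a b c e hab hce h1 h2 h3 h4 t u).map E.φ,
      fun a b hab t u => (h.opp a b hab t u).map E.φ,
      fun a b c hab hbc hac t u => by rw [← map_commutatorElement, h.chain a b c hab hbc hac]⟩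
  obtain ⟨v1, v2, v3, v4⟩ := OPlusSt.rfl'_vals hne
  obtain ⟨s1, s2, s3, s4⟩ := OPlusSt.epsW_vals hne (1 : F)
  have hsR : mag (Sum.inl E.s : Sgn n) ≠ mag (Sum.inl E.R : Sgn n) := E.ne_Rs.symm
  have hsa : mag (Sum.inl E.s : Sgn n) ≠ mag (Sum.inl E.a : Sgn n) := E.ne_as.symm
  have A := RT.W_ad (by omega) hne (one_ne_zero (α := F))
  refine rels_unique hP RT E.ne_Rs.symm (fun i j hij t => by rw [X_mixed, E.φf i j hij]) (fun t => ?_) fun t => ?_
  · rw [X_base, map_mul, map_mul, map_inv, E.φf _ _ E.ne_as.symm, E.φr, A.conj _ _ (show mag (Sum.inl E.s : Sgn n) ≠ mag (Sum.inr E.a : Sgn n) from E.ne_as.symm),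
      show (Sum.inr E.a : Sgn n) = op (Sum.inl E.a) from rfl, v2, s2, OPlusSt.rfl'_other hne hsR hsa,
      OPlusSt.epsW_other hsR hsa, one_mul, one_mul]
  · rw [X_base', map_mul, map_mul, map_inv, E.φf _ _ E.ne_as, E.φr, A.conj _ _ (show mag (Sum.inl E.a : Sgn n) ≠ mag (Sum.inr E.s : Sgn n) from E.ne_as),
      show (Sum.inr E.s : Sgn n) = op (Sum.inl E.s) from rfl, v4, s4, OPlusSt.rfl'_other hne (by rw [SpPres.mag_op]; exact hsR)
        (by rw [SpPres.mag_op]; exact hsa), OPlusSt.epsW_other (by rw [SpPres.mag_op]; exact hsR)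
        (by rw [SpPres.mag_op]; exact hsa), inv_one, one_mul, one_mul,
      RT.anti (op (Sum.inl E.s)) (op (Sum.inl E.R)) (by rw [SpPres.mag_op, SpPres.mag_op]; exact hsR), neg_neg]
    rfl

theorem r_eq : E.r = OPlusSt.W E.X (Sum.inl E.R) (Sum.inl E.a) 1 := by
  have h := E.rels_X
  have hW := mon_W (F := F) E.ne_as 1
  have hWR := mon_W (F := F) E.ne_Ra 1
  have hc : Commute E.r (E.f (StN.W StN.T E.R E.a ((1 : Fˣ) : F))) := E.loc.com_W E.ne_Ra E.loc.side_RA _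
  set p := E.f (StN.W StN.T E.a E.s ((1 : Fˣ) : F)) * (E.r * E.f (StN.T E.s E.a (-1)) * E.r⁻¹) *
      (E.f (StN.W StN.T E.a E.s ((1 : Fˣ) : F)))⁻¹ with hp
  have e1 : p = E.X (Sum.inl E.R) (Sum.inl E.a) 1 := by
    rw [hp, ← X_base]
    show E.half.f _ * E.half.Y E.s E.R (-1) * (E.half.f _)⁻¹ = E.half.Y E.R E.a 1
    rw [E.half.conj_Y hW E.ne_Rs.symm, Equiv.swap_apply_right,
      Equiv.swap_apply_of_ne_of_ne E.ne_Ra E.ne_Rs, E.half.Y_anti E.ne_Ra]
    congr 1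
    simp [E.ne_Rs, E.ne_Ra, E.ne_as.symm]
  have e2 : E.X (Sum.inl E.s) (Sum.inl E.a) 1 = E.r * E.f (StN.T E.s E.R (-1)) * E.r⁻¹ := by
    have e := E.half.conj_Y hWR E.ne_Rs.symm (-1)
    rw [Equiv.swap_apply_of_ne_of_ne E.ne_Rs.symm E.ne_as.symm, Equiv.swap_apply_left] at e
    show E.half.Y E.s E.a 1 = _
    rw [show E.half.Y E.s E.R (-1) = E.r * E.f (StN.T E.s E.a (-1)) * E.r⁻¹ from E.X_base (-1)] at e
    rw [show E.half.f = E.f from rfl, E.pass hc, hWR.conj_T E.ne_as.symm] at e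
    simpa [Equiv.swap_apply_of_ne_of_ne, E.ne_Ra, E.ne_Rs, E.ne_Rs.symm, E.ne_as.symm, inv_neg] using e.symm
  have e3 : E.r * E.X (Sum.inl E.s) (Sum.inl E.a) 1 * E.r⁻¹ = E.X (Sum.inl E.s) (Sum.inr E.R) 1 := by
    rw [e2, sq_conj, Loc.hW, (mon_hh E.ne_Ra (-1)).conj_T E.ne_Rs.symm, X_mixed]
    simp [E.ne_Ra, E.ne_Rs.symm, E.ne_as.symm, inv_neg]
  have e4 : E.r * E.X (Sum.inl E.R) (Sum.inr E.s) 1 * E.r⁻¹ = E.X (Sum.inr E.s) (Sum.inr E.a) 1 := by
    have e := E.half.cY' hWR E.ne_Rs.symm 1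
    rw [Equiv.swap_apply_of_ne_of_ne E.ne_Rs.symm E.ne_as.symm, Equiv.swap_apply_left] at e
    rw [show E.half.dual.Y E.s E.R 1 = E.r * E.f (StN.T E.a E.s (-1)) * E.r⁻¹ from E.X_base' 1] at e
    rw [show E.half.f = E.f from rfl, E.pass hc, hWR.conj_T E.ne_as] at e
    show _ = E.half.dual.Y E.s E.a 1
    have e' : E.r * E.f (StN.T E.R E.s (-1)) * E.r⁻¹ = E.half.dual.Y E.s E.a (-1) := by
      simpa [Equiv.swap_apply_of_ne_of_ne, E.ne_Ra, E.ne_Rs, E.ne_Rs.symm, E.ne_as.symm, inv_neg] using e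
    rw [X_mixed]
    have e'' := congrArg (·⁻¹) e'
    have hinv : (E.half.dual.Y E.s E.a (-1))⁻¹ = E.half.dual.Y E.s E.a 1 :=
      inv_eq_of_mul_eq_one_right (by
        have h0 := E.half.dual.Y_add E.ne_as.symm (0 : F) 0
        rw [add_zero] at h0
        rw [E.half.dual.Y_add E.ne_as.symm, neg_add_cancel, mul_eq_left.mp h0])
    simp only [hinv, _root_.mul_inv_rev, inv_inv, ← map_inv, StN.Rels.inv StN.rels_T E.ne_Rs, neg_neg] at e''
    rw [← e'', mul_assoc]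
  have hq : E.r * p * E.r⁻¹ = E.X (op (Sum.inl E.a)) (op (Sum.inl E.R)) (-1) := by
    have c1 := h.chain (Sum.inl E.R) (Sum.inr E.s) (Sum.inl E.a) E.ne_Rs E.ne_as.symm E.ne_Ra 1 1
    rw [one_mul] at c1
    rw [e1, ← c1, conjugate_commutatorElement, e4, show op (Sum.inr E.s : Sgn n) = Sum.inl E.s from rfl, e3,
      h.anti (Sum.inr E.a) (Sum.inr E.s) E.ne_as]
    exact (h.chain (Sum.inr E.a) (Sum.inr E.s) (Sum.inr E.R) E.ne_as E.ne_Rs.symm E.ne_Ra.symm (-1) 1).trans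
      (by rw [mul_one]; rfl)
  have hw : E.r = p * (E.r * p * E.r⁻¹) * p := E.weyl
  rw [hq, e1] at hw
  rw [OPlusSt.W, inv_one]
  exact hw

theorem range_le {H : Subgroup G} (hH : ∀ a b, mag a ≠ mag b → ∀ t, E.X a b t ∈ H) : H = ⊤ := by
  rw [eq_top_iff, ← E.gen, Subgroup.closure_le]
  have hf : H.comap E.f = ⊤ := Cfsg.Lib.Classical.eq_top_of_transvection_mem _ fun i j hij t => by
    show E.f _ ∈ H
    rw [show SpecialLinearGroup.transvection hij t = StN.T i j t by rw [StN.T, dif_pos hij], ← X_mixed]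
    exact hH (Sum.inl i) (Sum.inr j) hij t
  rintro x (⟨y, rfl⟩ | rfl)
  · exact hf.ge (Subgroup.mem_top y)
  · rw [SetLike.mem_coe, r_eq, OPlusSt.W]
    exact mul_mem (mul_mem (hH (Sum.inl E.R) (Sum.inl E.a) E.ne_Ra _) (hH _ _ (show mag (op (Sum.inl E.a) : Sgn n) ≠ mag (op (Sum.inl E.R)) from E.ne_Ra.symm) _)) (hH (Sum.inl E.R) (Sum.inl E.a) E.ne_Ra _)

include E in
/-- The presented group is the derived orthogonal group. -/
theorem iso : Nonempty (G ≃* ↥(Cfsg.Omega F (Cfsg.quadFormPlus n F))) := by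
  have hn : 4 ≤ n := by have := E.ha; omega
  obtain ⟨Φ, hΦ⟩ := exists_cover_any hn E.rels_X
  have hsurj : Function.Surjective Φ :=
    MonoidHom.range_eq_top.1 (E.range_le fun a b hab t => ⟨_, hΦ a b hab t⟩)
  have hcomp : E.φ.comp Φ = OPlusSt.proj n F := by
    have htop : MonoidHom.eqLocus (E.φ.comp Φ) (OPlusSt.proj n F) = ⊤ := by
      rw [eq_top_iff, ← OPlusSt.gen_XG, OPlusSt.gen, Subgroup.closure_le]
      rintro _ ⟨a, b, t, hab, -, rfl⟩
      show E.φ (Φ _) = _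
      rw [hΦ a b hab, E.φX a b hab, OPlusSt.proj_XG a b hab]
    exact MonoidHom.ext fun x => (show x ∈ MonoidHom.eqLocus _ _ by rw [htop]; trivial)
  have hrange : E.φ.range = Cfsg.Omega F (Cfsg.quadFormPlus n F) := by
    rw [← OPlusSt.range_proj (n := n) (by omega), ← hcomp, MonoidHom.range_comp, MonoidHom.range_eq_top.2 hsurj,
      MonoidHom.range_eq_map]
  refine ⟨(MonoidHom.ofInjective (f := E.φ) ?_).trans (MulEquiv.subgroupCongr hrange)⟩
  rw [injective_iff_map_eq_one]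
  intro g hg
  obtain ⟨x, rfl⟩ := hsurj g
  have hx : x ∈ (OPlusSt.proj n F).ker := by
    rw [MonoidHom.mem_ker, ← hcomp]; exact hg
  by_cases h2 : (2 : F) = 0
  · haveI : Finite ↥(OPlusSt.Gamma n F) := OPlusSt.finite_Gamma (by omega)
    have hcard := (OPlusSt.card_ker (n := n) (F := F) (by omega)).1
    have heven : Nat.gcd 2 (Nat.card F - 1) = 1 := by
      haveI := Fintype.ofFinite F
      have h := (FiniteField.even_card_iff_char_two (F := F)).1
        (ringChar.eq_iff.2 (CharTwo.of_one_ne_zero_of_two_eq_zero one_ne_zero h2))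
      have hpos : 1 ≤ Nat.card F := Nat.card_pos
      rw [Nat.card_eq_fintype_card] at hpos ⊢
      rw [Nat.gcd_rec, show (Fintype.card F - 1) % 2 = 1 by omega]
      rfl
    rw [heven, Subgroup.card_eq_one] at hcard
    rw [hcard, Subgroup.mem_bot] at hx
    rw [hx, map_one]
  · have hne : mag (Sum.inl E.R : Sgn n) ≠ mag (Sum.inl E.a : Sgn n) := E.ne_Ra
    obtain ⟨hz, hz1⟩ := OPlusSt.minus_spec (F := F) hn hne h2
    rcases OPlusSt.ker_eq hn hz hz1 hx with rfl | rfl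
    · exact map_one Φ
    have hW : ∀ {c d : Sgn n}, mag c ≠ mag d → ∀ t, Φ (OPlusSt.W OPlusSt.XG c d t) = OPlusSt.W E.X c d t := by
      intro c d hcd t
      rw [OPlusSt.W, OPlusSt.W, map_mul, map_mul, hΦ c d hcd,
        hΦ _ _ (by rw [SpPres.mag_op, SpPres.mag_op]; exact hcd.symm)]
    have hne' : mag (Sum.inl E.R : Sgn n) ≠ mag (op (Sum.inl E.a) : Sgn n) := hne
    have second : OPlusSt.hh E.X (Sum.inl E.R) (op (Sum.inl E.a)) (-1) = E.f (Loc.hW E.R E.a (-1)) := by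
      simp only [OPlusSt.hh, OPlusSt.W, SpPres.op_op, Loc.hW, StN.W, map_mul, map_inv, Units.val_neg, Units.val_one]
      rfl
    have first : OPlusSt.hh E.X (Sum.inl E.R) (Sum.inl E.a) (-1) = E.r⁻¹ * E.r⁻¹ := by
      rw [OPlusSt.hh, ← E.rels_X.W_inv hne, ← r_eq]
    rw [map_mul, OPlusSt.hh, OPlusSt.hh, map_mul, map_mul, map_inv, map_inv, hW hne, hW hne, hW hne', hW hne',
      ← OPlusSt.hh, ← OPlusSt.hh, first, second, ← weyl_sq]
    group

end Data

end Cfsg.Lib.OPlusPres
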