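import Cfsg.Agent.Known.CurtisTitsD.Base

/-!
# The centraliser of a transported root subgroup

`P t` is a root element of `SL n` moved by an extra element commuting with a Levi subgroup.
Finitely many commutations force the whole expected stabiliser to centralise all `P t`.
-/

set_option autoImplicit false
set_option linter.unusedSectionVars false

open scoped commutatorElement
open Matrix
open Cfsg.Lib.StN (T W rels_T)
open Cfsg.Lib.Known.CurtisTitsA
open Cfsg.Lib.Known.CurtisTitsD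

namespace Cfsg.Lib.OPlusPres

universe u v

variable {F : Type v} [Field F]

/-- Every element of a finite field is a signed sum of squares. -/
theorem squares_span [Finite F] (S : AddSubgroup F) (h : ∀ w : F, w ≠ 0 → w * w ∈ S) (t : F) : t ∈ S := by
  have hsq : ∀ w : F, w * w ∈ S := fun w => by
    rcases eq_or_ne w 0 with rfl | hw
    · rw [mul_zero]; exact zero_mem S
    · exact h w hw
  by_cases h2 : (2 : F) = 0
  · haveI := Fintype.ofFinite F
    obtain ⟨w, hw⟩ := FiniteField.isSquare_of_char_two (F := F)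
      (ringChar.eq_iff.2 (CharTwo.of_one_ne_zero_of_two_eq_zero one_ne_zero h2)) t
    rw [hw]; exact hsq w
  · rw [show t = (t + 1) / 2 * ((t + 1) / 2) - (t - 1) / 2 * ((t - 1) / 2) by field_simp; ring]
    exact sub_mem (hsq _) (hsq _)

theorem mulSingle_pair_other {N : ℕ} {i j k : Fin N} (hi : k ≠ i) (hj : k ≠ j) (a b : Fˣ) :
    (Pi.mulSingle i a * Pi.mulSingle j b : Fin N → Fˣ) k = 1 := by
  rw [Pi.mul_apply, Pi.mulSingle_eq_of_ne hi, Pi.mulSingle_eq_of_ne hj, one_mul]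

/-- The data. -/
structure Loc (n : ℕ) (F : Type v) [Field F] (G : Type u) [Group G] where
  /-- The map on `SL n`. -/
  f : SpecialLinearGroup (Fin n) F →* G
  /-- The extra element. -/
  r : G
  /-- First flipped index. -/
  R : Fin n
  /-- Second flipped index. -/
  A : Fin n
  /-- An outside index. -/
  S : Fin n
  /-- Another outside index. -/
  K : Fin n
  RA : R ≠ A
  RS : R ≠ S
  RK : R ≠ K
  AS : A ≠ S
  AK : A ≠ K
  SK : S ≠ K
  com : ∀ i j : Fin n, i ≠ j → (((i = R ∨ i = A) ∧ (j = R ∨ j = A)) ∨ ((i ≠ R ∧ i ≠ A) ∧ (j ≠ R ∧ j ≠ A))) →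
    ∀ t, Commute r (f (T i j t))

variable {n : ℕ} {G : Type u} [Group G] (L : Loc n F G)

namespace Loc

/-- Both indices lie on the same side. -/
def Side (i j : Fin n) : Prop :=
  ((i = L.R ∨ i = L.A) ∧ (j = L.R ∨ j = L.A)) ∨ ((i ≠ L.R ∧ i ≠ L.A) ∧ (j ≠ L.R ∧ j ≠ L.A))

theorem Side.symm {i j : Fin n} (h : L.Side i j) : L.Side j i := by
  rcases h with ⟨a, b⟩ | ⟨a, b⟩
  exacts [Or.inl ⟨b, a⟩, Or.inr ⟨b, a⟩]

theorem side_RA : L.Side L.R L.A := Or.inl ⟨Or.inl rfl, Or.inr rfl⟩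

theorem side_SK : L.Side L.S L.K := Or.inr ⟨⟨L.RS.symm, L.AS.symm⟩, ⟨L.RK.symm, L.AK.symm⟩⟩

/-- The transported root elements. -/
def P (t : F) : G := L.r * L.f (T L.S L.A t) * L.r⁻¹

theorem P_add (t u : F) : L.P t * L.P u = L.P (t + u) := by
  simp only [P, StN.mul_conj, conj_mul, ← map_mul, rels_T.add _ _ L.AS.symm]

theorem P_zero : L.P 0 = 1 := by
  have h := L.P_add 0 0
  rw [add_zero] at h
  exact mul_eq_left.mp h

theorem P_inv (t : F) : (L.P t)⁻¹ = L.P (-t) :=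
  inv_eq_of_mul_eq_one_right (by rw [P_add, add_neg_cancel, P_zero])

/-- The elements centralising all transported root elements. -/
def Z : Subgroup (SpecialLinearGroup (Fin n) F) :=
  (Subgroup.centralizer (Set.range L.P)).comap L.f

theorem mem_Z {x : SpecialLinearGroup (Fin n) F} : x ∈ L.Z ↔ ∀ t, Commute (L.f x) (L.P t) := by
  rw [Z, Subgroup.mem_comap, Subgroup.mem_centralizer_iff]
  exact ⟨fun h t => (h _ ⟨t, rfl⟩).symm, fun h => by rintro _ ⟨t, rfl⟩; exact (h t).symm⟩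

theorem com_W {i j : Fin n} (hij : i ≠ j) (h : L.Side i j) (a : F) : Commute L.r (L.f (W T i j a)) := by
  simp only [W, map_mul]
  exact ((L.com i j hij h _).mul_right (L.com j i hij.symm h.symm _)).mul_right (L.com i j hij h _)

/-- The torus element. -/
def hW (i j : Fin n) (a : Fˣ) : SpecialLinearGroup (Fin n) F :=
  W T i j (a : F) * (W T i j ((1 : Fˣ) : F))⁻¹

theorem com_hW {i j : Fin n} (hij : i ≠ j) (h : L.Side i j) (a : Fˣ) : Commute L.r (L.f (hW i j a)) := by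
  rw [hW, map_mul, map_inv]
  exact (L.com_W hij h _).mul_right (L.com_W hij h _).inv_right

theorem conj_P_of_com {c : SpecialLinearGroup (Fin n) F} {σ : Equiv.Perm (Fin n)} {d : Fin n → Fˣ}
    (hc : Mon c σ d) (h : Commute L.r (L.f c)) (t : F) :
    L.f c * L.P t * (L.f c)⁻¹ =
      L.r * L.f (T (σ L.S) (σ L.A) ((d L.S : F) * t * ((d L.A)⁻¹ : Fˣ))) * L.r⁻¹ := by
  rw [← hc.conj_T L.AS.symm, map_mul, map_mul, map_inv, P]
  calc L.f c * (L.r * L.f (T L.S L.A t) * L.r⁻¹) * (L.f c)⁻¹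
      = (L.f c * L.r) * L.f (T L.S L.A t) * (L.f c * L.r)⁻¹ := by group
    _ = (L.r * L.f c) * L.f (T L.S L.A t) * (L.r * L.f c)⁻¹ := by rw [h.eq]
    _ = _ := by group

theorem conj_P_diag {c : SpecialLinearGroup (Fin n) F} {d : Fin n → Fˣ} (hc : Mon c 1 d)
    (h : Commute L.r (L.f c)) (t : F) :
    L.f c * L.P t * (L.f c)⁻¹ = L.P ((d L.S : F) * t * ((d L.A)⁻¹ : Fˣ)) := by
  rw [L.conj_P_of_com hc h]; rfl

theorem hW_RA (a : Fˣ) (t : F) :
    L.f (hW L.R L.A a) * L.P t * (L.f (hW L.R L.A a))⁻¹ = L.P ((a : F) * t) := by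
  rw [L.conj_P_diag (c := hW L.R L.A a) (mon_hh L.RA a) (L.com_hW L.RA L.side_RA a)]
  congr 1
  simp [mulSingle_pair_other L.RS.symm L.AS.symm, L.RA.symm, mul_comm]

theorem Z_conj {c x : SpecialLinearGroup (Fin n) F} {δ : Fˣ}
    (hc : ∀ t, L.f c * L.P t * (L.f c)⁻¹ = L.P ((δ : F) * t)) (hx : x ∈ L.Z) : c * x * c⁻¹ ∈ L.Z := by
  rw [mem_Z] at hx ⊢
  intro t
  have e := hc ((δ⁻¹ : Fˣ) * t)
  rw [← mul_assoc, ← Units.val_mul, mul_inv_cancel, Units.val_one, one_mul] at e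
  rw [← e, map_mul, map_mul, map_inv]
  exact (Commute.conj_iff _).2 (hx _)

theorem Z_T_side {i j : Fin n} (hij : i ≠ j) (h : L.Side i j) (hjS : j ≠ L.S) (hiA : i ≠ L.A) (t : F) :
    T i j t ∈ L.Z := by
  rw [mem_Z]
  intro u
  have c1 := L.com i j hij h t
  have c2 : Commute (L.f (T i j t)) (L.f (T L.S L.A u)) :=
    (rels_T.disj i j L.S L.A hij L.AS.symm hiA hjS t u).map L.f
  exact ((c1.symm.mul_right c2).mul_right c1.symm.inv_right)

/-- The torus fixing the base point of the relations. -/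
def eT (w : Fˣ) : SpecialLinearGroup (Fin n) F := hW L.R L.A w * hW L.S L.K w

theorem eT_mon (w : Fˣ) :
    Mon (L.eT w) 1 (Pi.mulSingle L.R w * Pi.mulSingle L.A w⁻¹ * (Pi.mulSingle L.S w * Pi.mulSingle L.K w⁻¹)) :=
  mon_congr ((mon_hh L.RA w).mul (mon_hh L.SK w)) (one_mul 1) fun _ => rfl

theorem eT_P (w : Fˣ) (t : F) : L.f (L.eT w) * L.P t * (L.f (L.eT w))⁻¹ = L.P ((w : F) * w * t) := by
  have hcom : Commute L.r (L.f (L.eT w)) := by
    rw [eT, map_mul]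
    exact (L.com_hW L.RA L.side_RA w).mul_right (L.com_hW L.SK L.side_SK w)
  rw [L.conj_P_diag (L.eT_mon w) hcom]
  congr 1
  simp [L.RS, L.RS.symm, L.RA, L.RA.symm, L.AS, L.AS.symm, L.AK, L.AK.symm, L.SK, L.SK.symm, L.RK, L.RK.symm]
  ring

/-- A relation at one point propagates to all. -/
theorem upgrade [Finite F] {x : SpecialLinearGroup (Fin n) F} (h1 : Commute (L.f x) (L.P 1))
    (hx : ∀ w, Commute x (L.eT w)) : x ∈ L.Z := by
  let Sx : AddSubgroup F :=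
    { carrier := {t | Commute (L.f x) (L.P t)}
      zero_mem' := by show Commute _ (L.P 0); rw [P_zero]; exact Commute.one_right _
      add_mem' := fun {a b} ha hb => by
        show Commute _ (L.P (a + b)); rw [← P_add]; exact Commute.mul_right ha hb
      neg_mem' := fun {a} ha => by show Commute _ (L.P (-a)); rw [← P_inv]; exact Commute.inv_right ha }
  rw [mem_Z]
  refine squares_span Sx fun w hw => ?_
  obtain ⟨u, rfl⟩ : ∃ u : Fˣ, (u : F) = w := ⟨Units.mk0 w hw, rfl⟩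
  show Commute _ _
  rw [← mul_one ((u : F) * u), ← L.eT_P]
  have hc := (hx u).map L.f
  exact (hc.mul_right h1).mul_right hc.inv_right

theorem eT_commute_mon {x : SpecialLinearGroup (Fin n) F} {σ : Equiv.Perm (Fin n)} {d : Fin n → Fˣ}
    (hx : Mon x σ d) (hσ : σ = Equiv.swap L.R L.S * Equiv.swap L.A L.K) (w : Fˣ) : Commute x (L.eT w) := by
  refine mon_eq (hx.mul (L.eT_mon w)) (mon_congr ((L.eT_mon w).mul hx) (by rw [one_mul, mul_one]) fun k => ?_)
  subst hσ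
  simp only [Equiv.Perm.mul_apply, Equiv.Perm.one_apply, Pi.mul_apply]
  by_cases h1 : k = L.R
  · subst h1
    simp [L.RS, L.RS.symm, L.RA, L.RA.symm, L.AS.symm, L.RK, L.RK.symm, L.SK, Equiv.swap_apply_of_ne_of_ne, mul_comm]
  by_cases h2 : k = L.S
  · subst h2
    simp [L.RS, L.RS.symm, L.RA, L.RK, L.AS, L.AS.symm, L.SK, L.SK.symm, Equiv.swap_apply_of_ne_of_ne, mul_comm]
  by_cases h3 : k = L.A
  · subst h3
    simp [L.RS, L.RK.symm, L.RA, L.RA.symm, L.AS, L.AS.symm, L.AK, L.AK.symm, L.SK, L.SK.symm,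
      Equiv.swap_apply_of_ne_of_ne, mul_comm]
  by_cases h4 : k = L.K
  · subst h4
    simp [L.RS, L.RK, L.RK.symm, L.RA.symm, L.AS, L.AK, L.AK.symm, L.SK, L.SK.symm, Equiv.swap_apply_of_ne_of_ne,
      mul_comm]
  simp [h1, h2, h3, h4, Equiv.swap_apply_of_ne_of_ne, mul_comm]

theorem eT_commute_T {i j : Fin n} (hij : i ≠ j)
    (h : (i = L.A ∧ j = L.K) ∨ (i = L.R ∧ j = L.S)) (t : F) (w : Fˣ) : Commute (T i j t) (L.eT w) := by
  have e := (L.eT_mon w).conj_T hij t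
  rw [Equiv.Perm.one_apply, Equiv.Perm.one_apply] at e
  refine ((mul_inv_eq_iff_eq_mul.1 (e.trans ?_)) : _).symm
  congr 1
  rcases h with ⟨rfl, rfl⟩ | ⟨rfl, rfl⟩ <;>
    · simp [L.RS, L.RS.symm, L.RA, L.RA.symm, L.AS, L.AS.symm, L.AK, L.AK.symm, L.SK, L.SK.symm, L.RK, L.RK.symm]
      field_simp

/-- The monomial element of the relations. -/
def gR : SpecialLinearGroup (Fin n) F := W T L.R L.S ((1 : Fˣ) : F) * W T L.A L.K ((1 : Fˣ) : F)

theorem gR_mon : ∃ d, Mon (gR L) (Equiv.swap L.R L.S * Equiv.swap L.A L.K) d :=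
  ⟨_, (mon_W L.RS 1).mul (mon_W L.AK 1)⟩

variable [Finite F] (hg : Commute (L.f (gR L)) (L.P 1))
  (h4 : n = 4 → Commute (L.f (T L.A L.K 1)) (L.P 1))
include hg h4

theorem gR_mem : gR L ∈ L.Z := by
  obtain ⟨d, hd⟩ := L.gR_mon
  exact L.upgrade hg (L.eT_commute_mon hd rfl)

theorem gR_conj {x : SpecialLinearGroup (Fin n) F} (hx : x ∈ L.Z) : gR L * x * (gR L)⁻¹ ∈ L.Z :=
  mul_mem (mul_mem (L.gR_mem hg h4) hx) (inv_mem (L.gR_mem hg h4))

theorem T_AK_mem (t : F) : T L.A L.K t ∈ L.Z := by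
  rcases eq_or_ne t 0 with rfl | ht
  · rw [StN.Rels.zero rels_T L.AK]; exact one_mem _
  by_cases hn : n = 4
  · have h1 : T L.A L.K 1 ∈ L.Z := L.upgrade (h4 hn) (L.eT_commute_T L.AK (Or.inl ⟨rfl, rfl⟩) 1)
    have hc := L.Z_conj (δ := (Units.mk0 t ht)⁻¹) (L.hW_RA (Units.mk0 t ht)⁻¹) h1
    rw [hW, (mon_hh L.RA _).conj_T L.AK] at hc
    simpa [L.RA, L.RA.symm, L.RK.symm, L.AK.symm] using hc
  · obtain ⟨l, hlR, hlA, hlS, hlK⟩ : ∃ l, l ≠ L.R ∧ l ≠ L.A ∧ l ≠ L.S ∧ l ≠ L.K := by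
      have hc : ({L.R, L.A, L.S, L.K} : Finset (Fin n)).card = 4 := by
        simp [L.RA, L.RS, L.RK, L.AS, L.AK, L.SK]
      have hle := Finset.card_le_univ ({L.R, L.A, L.S, L.K} : Finset (Fin n))
      rw [hc, Fintype.card_fin] at hle
      obtain ⟨l, hl⟩ : ∃ l, l ∉ ({L.R, L.A, L.S, L.K} : Finset (Fin n)) := by
        by_contra e
        push Not at e
        rw [Finset.eq_univ_iff_forall.2 e, Finset.card_univ, Fintype.card_fin] at hc
        omega
      simp only [Finset.mem_insert, Finset.mem_singleton, not_or] at hl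
      exact ⟨l, hl⟩
    have hsd : L.Side L.K l := Or.inr ⟨⟨L.RK.symm, L.AK.symm⟩, ⟨hlR, hlA⟩⟩
    have hKl : ∀ s, T L.K l s ∈ L.Z := L.Z_T_side hlK.symm hsd hlS L.AK.symm
    have hlK' : ∀ s, T l L.K s ∈ L.Z := L.Z_T_side hlK hsd.symm L.SK.symm hlA
    obtain ⟨d, hd⟩ := L.gR_mon
    have e1 : (Equiv.swap L.R L.S * Equiv.swap L.A L.K) L.K = L.A := by
      simp [Equiv.swap_apply_of_ne_of_ne, L.RA.symm, L.AS]
    have e2 : (Equiv.swap L.R L.S * Equiv.swap L.A L.K) l = l := by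
      simp [Equiv.swap_apply_of_ne_of_ne, hlR, hlA, hlS, hlK]
    have hAl : ∀ s, T L.A l s ∈ L.Z := fun s => by
      have h := L.gR_conj hg h4 (hKl ((((d L.K)⁻¹ : Fˣ) : F) * s * (d l : F)))
      rw [hd.conj_T hlK.symm, e1, e2] at h
      rwa [show (d L.K : F) * ((((d L.K)⁻¹ : Fˣ) : F) * s * (d l : F)) * (((d l)⁻¹ : Fˣ) : F) = s by
        simp [field]] at h
    have := rels_T.comm L.A l L.K hlA.symm hlK L.AK t 1
    rw [mul_one] at this
    rw [← this, commutatorElement_def]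
    exact mul_mem (mul_mem (mul_mem (hAl t) (hlK' 1)) (inv_mem (hAl t))) (inv_mem (hlK' 1))

theorem T_KA_mem (t : F) : T L.K L.A t ∈ L.Z := by
  obtain ⟨d, hd⟩ := L.gR_mon
  have e1 : (Equiv.swap L.R L.S * Equiv.swap L.A L.K) L.K = L.A := by
    simp [Equiv.swap_apply_of_ne_of_ne, L.RA.symm, L.AS]
  have e2 : (Equiv.swap L.R L.S * Equiv.swap L.A L.K) L.A = L.K := by
    simp [Equiv.swap_apply_of_ne_of_ne, L.RK.symm, L.SK.symm]
  have h := L.gR_conj hg h4 (L.T_AK_mem hg h4 ((((d L.A)⁻¹ : Fˣ) : F) * t * (d L.K : F)))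
  rw [hd.conj_T L.AK, e1, e2] at h
  rwa [show (d L.A : F) * ((((d L.A)⁻¹ : Fˣ) : F) * t * (d L.K : F)) * (((d L.K)⁻¹ : Fˣ) : F) = t by
    simp [field]] at h

/-- The special linear group on the other indices centralises the transported root subgroup. -/
theorem T_others_mem {i j : Fin n} (hij : i ≠ j) (hi : i ≠ L.R) (hi' : i ≠ L.S) (hj : j ≠ L.R) (hj' : j ≠ L.S)
    (t : F) : T i j t ∈ L.Z := by
  by_cases hiA : i = L.A
  · subst hiA
    by_cases hjK : j = L.K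
    · subst hjK; exact L.T_AK_mem hg h4 t
    · have h1 : ∀ s, T L.K j s ∈ L.Z := L.Z_T_side (Ne.symm hjK)
        (Or.inr ⟨⟨L.RK.symm, L.AK.symm⟩, ⟨hj, hij.symm⟩⟩) hj' L.AK.symm
      have := rels_T.comm L.A L.K j L.AK (Ne.symm hjK) hij t 1
      rw [mul_one] at this
      rw [← this, commutatorElement_def]
      exact mul_mem (mul_mem (mul_mem (L.T_AK_mem hg h4 t) (h1 1)) (inv_mem (L.T_AK_mem hg h4 t))) (inv_mem (h1 1))
  by_cases hjA : j = L.A
  · subst hjA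
    by_cases hiK : i = L.K
    · subst hiK; exact L.T_KA_mem hg h4 t
    · have h1 : ∀ s, T i L.K s ∈ L.Z := L.Z_T_side hiK
        (Or.inr ⟨⟨hi, hiA⟩, ⟨L.RK.symm, L.AK.symm⟩⟩) L.SK.symm hiA
      have := rels_T.comm i L.K L.A hiK L.AK.symm hij t 1
      rw [mul_one] at this
      rw [← this, commutatorElement_def]
      exact mul_mem (mul_mem (mul_mem (h1 t) (L.T_KA_mem hg h4 1)) (inv_mem (h1 t))) (inv_mem (L.T_KA_mem hg h4 1))
  exact L.Z_T_side hij (Or.inr ⟨⟨hi, hiA⟩, ⟨hj, hjA⟩⟩) hj' hiA t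

theorem W_RS_mem : W T L.R L.S ((1 : Fˣ) : F) ∈ L.Z := by
  have hW : W T L.A L.K ((1 : Fˣ) : F) ∈ L.Z := by
    rw [W]
    exact mul_mem (mul_mem (L.T_AK_mem hg h4 _) (L.T_KA_mem hg h4 _)) (L.T_AK_mem hg h4 _)
  rw [show W T L.R L.S ((1 : Fˣ) : F) = gR L * (W T L.A L.K ((1 : Fˣ) : F))⁻¹ by
    rw [gR, mul_inv_cancel_right]]
  exact mul_mem (L.gR_mem hg h4) (inv_mem hW)

theorem odd_case (h2 : (2 : F) ≠ 0) (u : F) : T L.R L.S u ∈ L.Z := by
  set a := L.f (T L.R L.A 1) with ha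
  set m := L.f (W T L.A L.S ((1 : Fˣ) : F)) with hm
  set mW := L.f (W T L.R L.A ((1 : Fˣ) : F)) with hmW
  let U : F → G := fun x => L.r * L.f (T L.S L.R x) * L.r⁻¹
  let Q : F → G := fun p => m * L.P p * m⁻¹
  have hWn := mon_W (F := F) L.AS 1
  have hWr := mon_W (F := F) L.RA 1
  have wP : ∀ x, mW * L.P x * mW⁻¹ = U x := fun x => by
    rw [hmW, L.conj_P_of_com hWr (L.com_W L.RA L.side_RA _)]
    simp [U, Equiv.swap_apply_of_ne_of_ne, L.RS.symm, L.AS.symm]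
  have chain1 : ∀ s x, ⁅L.f (T L.R L.A s), U x⁆ = L.P (-(s * x)) := fun s x => by
    have hc := L.com L.R L.A L.RA L.side_RA s
    show ⁅_, L.r * _ * L.r⁻¹⁆ = _
    rw [show L.f (T L.R L.A s) = L.r * L.f (T L.R L.A s) * L.r⁻¹ by rw [hc.eq, mul_inv_cancel_right],
      ← conjugate_commutatorElement, ← map_commutatorElement, ← commutatorElement_inv,
      rels_T.comm L.S L.R L.A L.RS.symm L.RA L.AS.symm, StN.Rels.inv rels_T L.AS.symm, P, mul_comm x]
  -- the moved element fixes `U`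
  have hWid : W T L.A L.S ((1 : Fˣ) : F) * W T L.R L.A ((1 : Fˣ) : F) =
      W T L.R L.A ((1 : Fˣ) : F) * (W T L.R L.S ((1 : Fˣ) : F))⁻¹ := by
    refine mon_eq (hWn.mul hWr) (mon_congr (hWr.mul (mon_inv (mon_W L.RS 1))) ?_ fun k => ?_)
    · rw [Equiv.swap_inv]
      refine Equiv.ext fun k => ?_
      simp only [Equiv.Perm.mul_apply]
      by_cases h1 : k = L.R
      · subst h1; simp [Equiv.swap_apply_of_ne_of_ne, L.RS, L.RA, L.RS.symm, L.AS.symm]
      by_cases h2 : k = L.A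
      · subst h2; simp [Equiv.swap_apply_of_ne_of_ne, L.RA, L.RA.symm, L.AS, L.RS]
      by_cases h3 : k = L.S
      · subst h3; simp [Equiv.swap_apply_of_ne_of_ne, L.RS.symm, L.AS.symm]
      simp [Equiv.swap_apply_of_ne_of_ne, h1, h2, h3]
    · rw [Equiv.swap_inv]
      by_cases h1 : k = L.R
      · subst h1; simp [Equiv.swap_apply_of_ne_of_ne, L.RS, L.RS.symm, L.RA, L.AS, L.AS.symm]
      by_cases h2 : k = L.A
      · subst h2; simp [Equiv.swap_apply_of_ne_of_ne, L.RA, L.RA.symm, L.AS, L.RS]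
      by_cases h3 : k = L.S
      · subst h3; simp [Equiv.swap_apply_of_ne_of_ne, L.RS, L.RS.symm, L.RA, L.AS, L.AS.symm]
      simp [Equiv.swap_apply_of_ne_of_ne, h1, h2, h3]
  have hRS := (L.mem_Z.1 (L.W_RS_mem hg h4))
  have mU : ∀ x, m * U x * m⁻¹ = U x := fun x => by
    rw [← wP, show m * (mW * L.P x * mW⁻¹) * m⁻¹ = (m * mW) * L.P x * (m * mW)⁻¹ by group, hm, hmW, ← map_mul,
      hWid, map_mul, map_inv, _root_.mul_inv_rev, inv_inv, ← hmW]
    calc mW * (L.f (W T L.R L.S ((1 : Fˣ) : F)))⁻¹ * L.P x * (L.f (W T L.R L.S ((1 : Fˣ) : F)) * mW⁻¹)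
        = mW * ((L.f (W T L.R L.S ((1 : Fˣ) : F)))⁻¹ * L.P x * L.f (W T L.R L.S ((1 : Fˣ) : F))) * mW⁻¹ := by group
      _ = _ := by rw [(hRS x).inv_left.eq, inv_mul_cancel_right]
  have chain2 : ∀ v x, ⁅L.f (T L.R L.S v), U x⁆ = Q (v * x) := fun v x => by
    have e : L.f (T L.R L.S v) = m * L.f (T L.R L.A (-v)) * m⁻¹ := by
      rw [hm, ← map_inv, ← map_mul, ← map_mul, hWn.conj_T L.RA]
      congr 1
      simp [Equiv.swap_apply_of_ne_of_ne, L.RA, L.RS, L.AS, inv_neg]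
    rw [e, show U x = m * U x * m⁻¹ from (mU x).symm, ← conjugate_commutatorElement, chain1, neg_mul, neg_neg]
  -- and transported once more
  have hWid2 : W T L.R L.A ((1 : Fˣ) : F) * W T L.A L.S ((1 : Fˣ) : F) =
      W T L.A L.S ((1 : Fˣ) : F) * W T L.R L.S ((1 : Fˣ) : F) := by
    refine mon_eq (hWr.mul hWn) (mon_congr (hWn.mul (mon_W L.RS 1)) ?_ fun k => ?_)
    · refine Equiv.ext fun k => ?_
      simp only [Equiv.Perm.mul_apply]
      by_cases h1 : k = L.R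
      · subst h1; simp [Equiv.swap_apply_of_ne_of_ne, L.RS, L.RA, L.RS.symm, L.AS.symm]
      by_cases h2 : k = L.A
      · subst h2; simp [Equiv.swap_apply_of_ne_of_ne, L.RA, L.RA.symm, L.AS, L.RS.symm, L.AS.symm]
      by_cases h3 : k = L.S
      · subst h3; simp [Equiv.swap_apply_of_ne_of_ne, L.RS.symm, L.RA, L.RS, L.AS.symm]
      simp [Equiv.swap_apply_of_ne_of_ne, h1, h2, h3]
    · by_cases h1 : k = L.R
      · subst h1; simp [Equiv.swap_apply_of_ne_of_ne, L.RS, L.RS.symm, L.RA, L.AS, L.AS.symm]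
      by_cases h2 : k = L.A
      · subst h2; simp [Equiv.swap_apply_of_ne_of_ne, L.RA, L.RA.symm, L.AS, L.RS.symm, L.AS.symm]
      by_cases h3 : k = L.S
      · subst h3; simp [Equiv.swap_apply_of_ne_of_ne, L.RS, L.RS.symm, L.RA, L.RA.symm, L.AS, L.AS.symm]
      simp [Equiv.swap_apply_of_ne_of_ne, h1, h2, h3]
  have wQ : ∀ p, mW * Q p * mW⁻¹ = Q p := fun p => by
    show mW * (m * L.P p * m⁻¹) * mW⁻¹ = m * L.P p * m⁻¹
    rw [show mW * (m * L.P p * m⁻¹) * mW⁻¹ = (mW * m) * L.P p * (mW * m)⁻¹ by group, hm, hmW, ← map_mul, hWid2,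
      map_mul, _root_.mul_inv_rev, ← hm, mul_assoc m, (hRS p).eq]
    group
  have wU : ∀ x, mW * U x * mW⁻¹ = L.P (-x) := fun x => by
    show mW * (L.r * L.f (T L.S L.R x) * L.r⁻¹) * mW⁻¹ = _
    have hc := L.com_W L.RA L.side_RA (((1 : Fˣ) : F))
    rw [← hmW] at hc
    calc mW * (L.r * L.f (T L.S L.R x) * L.r⁻¹) * mW⁻¹
        = (mW * L.r) * L.f (T L.S L.R x) * (mW * L.r)⁻¹ := by group
      _ = L.r * (mW * L.f (T L.S L.R x) * mW⁻¹) * L.r⁻¹ := by rw [← hc.eq]; group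
      _ = _ := by
        rw [P, hmW, ← map_inv, ← map_mul, ← map_mul, hWr.conj_T L.RS.symm]
        congr 3
        simp [Equiv.swap_apply_of_ne_of_ne, L.RS.symm, L.RA, L.AS.symm, inv_neg]
  have chain3 : ∀ v t, ⁅L.f (T L.A L.S v), L.P t⁆ = Q (v * t) := fun v t => by
    have e := congrArg (fun y => mW * y * mW⁻¹) (chain2 (-v) (-t))
    simp only [conjugate_commutatorElement, wQ, wU, neg_neg, neg_mul_neg] at e
    rw [show mW * L.f (T L.R L.S (-v)) * mW⁻¹ = L.f (T L.A L.S v) by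
      rw [hmW, ← map_inv, ← map_mul, ← map_mul, hWr.conj_T L.RS]
      congr 1
      simp [Equiv.swap_apply_of_ne_of_ne, L.RS.symm, L.RA, L.AS.symm]] at e
    exact e
  -- shared root subgroups commute
  have hWid3 : W T L.A L.K ((1 : Fˣ) : F) * W T L.A L.S ((1 : Fˣ) : F) =
      W T L.S L.K ((1 : Fˣ) : F) * W T L.A L.K ((1 : Fˣ) : F) := by
    refine mon_eq ((mon_W L.AK 1).mul hWn) (mon_congr ((mon_W L.SK 1).mul (mon_W L.AK 1)) ?_ fun k => ?_)
    · refine Equiv.ext fun k => ?_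
      simp only [Equiv.Perm.mul_apply]
      by_cases h1 : k = L.K
      · subst h1; simp [Equiv.swap_apply_of_ne_of_ne, L.AS, L.AK, L.SK, L.AK.symm, L.SK.symm]
      by_cases h2 : k = L.A
      · subst h2; simp [Equiv.swap_apply_of_ne_of_ne, L.AK, L.SK, L.AS, L.AS.symm]
      by_cases h3 : k = L.S
      · subst h3; simp [Equiv.swap_apply_of_ne_of_ne, L.AS.symm, L.SK, L.AK, L.SK.symm]
      simp [Equiv.swap_apply_of_ne_of_ne, h1, h2, h3]
    · by_cases h1 : k = L.K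
      · subst h1; simp [Equiv.swap_apply_of_ne_of_ne, L.AS, L.AS.symm, L.AK, L.AK.symm, L.SK, L.SK.symm]
      by_cases h2 : k = L.A
      · subst h2; simp [Equiv.swap_apply_of_ne_of_ne, L.AK, L.AK.symm, L.SK, L.SK.symm, L.AS, L.AS.symm]
      by_cases h3 : k = L.S
      · subst h3; simp [Equiv.swap_apply_of_ne_of_ne, L.AS, L.AS.symm, L.SK, L.AK, L.SK.symm]
      simp [Equiv.swap_apply_of_ne_of_ne, h1, h2, h3]
  have hAK : ∀ t, Commute (L.f (W T L.A L.K ((1 : Fˣ) : F))) (L.P t) := by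
    refine L.mem_Z.1 ?_
    rw [W]
    exact mul_mem (mul_mem (L.T_AK_mem hg h4 _) (L.T_KA_mem hg h4 _)) (L.T_AK_mem hg h4 _)
  have QP : ∀ p t, Commute (Q p) (L.P t) := fun p t => by
    set g := L.f (W T L.A L.K ((1 : Fˣ) : F)) with hgdef
    refine (Commute.conj_iff g).1 ?_
    rw [(hAK t).eq, mul_inv_cancel_right]
    rw [show g * Q p * g⁻¹ = (g * m) * L.P p * (g * m)⁻¹ by
      show g * (m * L.P p * m⁻¹) * g⁻¹ = _; group, hgdef, hm, ← map_mul, hWid3, map_mul, _root_.mul_inv_rev, ← hgdef]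
    rw [show ∀ c : G, c * g * L.P p * (g⁻¹ * c⁻¹) = c * (g * L.P p * g⁻¹) * c⁻¹ from fun c => by group,
      (hAK p).eq, mul_inv_cancel_right, L.conj_P_of_com (mon_W L.SK 1) (L.com_W L.SK L.side_SK _),
      Equiv.swap_apply_left, Equiv.swap_apply_of_ne_of_ne L.AS L.AK, P]
    exact (Commute.conj_iff _).2 ((rels_T.disj _ _ _ _ L.AK.symm L.AS.symm L.AK.symm L.AS _ _).map L.f)
  have haZ : ∀ t, Commute a (L.P t) :=
    L.mem_Z.1 (L.Z_T_side L.RA L.side_RA L.AS L.RA _)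
  have xa : ∀ v, Commute (L.f (T L.R L.S v)) a := fun v =>
    (rels_T.disj _ _ _ _ L.RS L.RA L.RA L.RS.symm v 1).map L.f
  have xQ : ∀ v p, Commute (L.f (T L.R L.S v)) (Q p) := fun v p => by
    have hz := L.mem_Z.1 (L.Z_T_side L.RA L.side_RA L.AS L.RA (-v)) p
    have e : L.f (T L.R L.S v) = m * L.f (T L.R L.A (-v)) * m⁻¹ := by
      rw [hm, ← map_inv, ← map_mul, ← map_mul, hWn.conj_T L.RA]
      congr 1
      simp [Equiv.swap_apply_of_ne_of_ne, L.RA, L.RS, L.AS, inv_neg]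
    rw [e]
    exact (Commute.conj_iff m).2 hz
  let E : F → G := fun p => ⁅a, Q p⁆
  have split : ∀ {x y z : G}, ⁅x, y * z⁆ = ⁅x, y⁆ * (y * ⁅x, z⁆ * y⁻¹) := fun {x y z} => by
    simp only [commutatorElement_def]; group
  -- first expansion
  have ex1 : ∀ v t, ⁅L.f (T L.R L.S v), L.P t⁆ = E (-(v * t)) := fun v t => by
    set x := L.f (T L.R L.S v) with hx
    have eP : L.P t = ⁅a, U (-t)⁆ := by rw [ha, chain1, mul_neg, neg_neg, one_mul]
    have e2 : x * U (-t) * x⁻¹ = Q (-(v * t)) * U (-t) := by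
      have := chain2 v (-t)
      rw [commutatorElement_def, mul_neg, mul_inv_eq_iff_eq_mul] at this
      exact this
    have e3 : x * L.P t * x⁻¹ = E (-(v * t)) * L.P t := by
      rw [eP, conjugate_commutatorElement, (xa v).eq, mul_inv_cancel_right, e2, split, ← eP,
        (QP _ t).eq, mul_inv_cancel_right]
    rw [commutatorElement_def, e3, mul_inv_cancel_right]
  -- second expansion
  have ex2 : ∀ v t, ⁅L.P t, L.f (T L.R L.S v)⁆ = E (-(v * t)) := fun v t => by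
    have eX : L.f (T L.R L.S v) = ⁅a, L.f (T L.A L.S v)⁆ := by
      rw [ha, ← map_commutatorElement, rels_T.comm L.R L.A L.S L.RA L.AS L.RS, one_mul]
    have e2 : L.P t * L.f (T L.A L.S v) * (L.P t)⁻¹ = (Q (v * t))⁻¹ * L.f (T L.A L.S v) := by
      rw [← chain3, commutatorElement_inv, commutatorElement_def, inv_mul_cancel_right]
    have hQinv : (Q (v * t))⁻¹ = Q (-(v * t)) := by
      show (m * L.P _ * m⁻¹)⁻¹ = m * L.P _ * m⁻¹
      rw [← P_inv]; group
    rw [hQinv] at e2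
    have e3 : L.P t * L.f (T L.R L.S v) * (L.P t)⁻¹ = E (-(v * t)) * L.f (T L.R L.S v) := by
      rw [eX, conjugate_commutatorElement, ← (haZ t).eq, mul_inv_cancel_right, e2, split, ← eX,
        ← (xQ v _).eq, mul_inv_cancel_right]
    rw [commutatorElement_def, e3, mul_inv_cancel_right]
  have sq : ∀ p, E p * E p = 1 := fun p => by
    have h1 := ex1 (-p) 1
    have h2' := ex2 (-p) 1
    rw [mul_one, neg_neg] at h1 h2'
    nth_rewrite 1 [← h1]
    rw [← h2', ← commutatorElement_inv (L.P 1), inv_mul_cancel]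
  have xE : ∀ v p, Commute (L.f (T L.R L.S v)) (E p) := fun v p => by
    show Commute _ ⁅a, Q p⁆
    rw [commutatorElement_def]
    exact (((xa v).mul_right (xQ v p)).mul_right (xa v).inv_right).mul_right (xQ v p).inv_right
  have add : ∀ p p', E (p + p') = E p' * E p := fun p p' => by
    have h := ex1 (-p + -p') 1
    rw [mul_one, neg_add, neg_neg, neg_neg, ← rels_T.add _ _ L.RS, map_mul] at h
    have hp := ex1 (-p) 1
    have hp' := ex1 (-p') 1
    rw [mul_one, neg_neg] at hp hp'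
    rw [← h, show ∀ x y z : G, ⁅x * y, z⁆ = x * ⁅y, z⁆ * x⁻¹ * ⁅x, z⁆ from fun _ _ _ => by
      simp only [commutatorElement_def]; group, hp', hp, (xE _ _).eq, mul_inv_cancel_right]
  rw [mem_Z]
  intro t
  rw [← commutatorElement_eq_one_iff_commute, ex1, show -(u * t) = -(u * t) / 2 + -(u * t) / 2 by field_simp; ring, add]
  exact sq _

theorem T_RS_mem (hopp : (2 : F) ≠ 0 ∨ Commute (L.f (T L.R L.S 1)) (L.P 1)) (u : F) :
    T L.R L.S u ∈ L.Z := by
  rcases hopp with h | h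
  · exact L.odd_case hg h4 h u
  rcases eq_or_ne u 0 with rfl | hu
  · rw [StN.Rels.zero rels_T L.RS]; exact one_mem _
  have h1 : T L.R L.S 1 ∈ L.Z := L.upgrade h (L.eT_commute_T L.RS (Or.inr ⟨rfl, rfl⟩) 1)
  have hc := L.Z_conj (δ := Units.mk0 u hu) (L.hW_RA (Units.mk0 u hu)) h1
  rw [hW, (mon_hh L.RA _).conj_T L.RS] at hc
  simpa [L.RA, L.RA.symm, L.RS.symm, L.AS.symm] using hc

theorem T_SR_mem (hopp : (2 : F) ≠ 0 ∨ Commute (L.f (T L.R L.S 1)) (L.P 1)) (u : F) :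
    T L.S L.R u ∈ L.Z := by
  have hw := L.W_RS_mem hg h4
  have h := mul_mem (mul_mem hw (L.T_RS_mem hg h4 hopp (-u))) (inv_mem hw)
  rw [(mon_W L.RS 1).conj_T L.RS] at h
  simpa [Equiv.swap_apply_left, Equiv.swap_apply_right, L.RS, L.RS.symm, inv_neg] using h

/-- What the amalgam needs. -/
theorem com_root (hopp : (2 : F) ≠ 0 ∨ Commute (L.f (T L.R L.S 1)) (L.P 1)) {i j : Fin n} (hij : i ≠ j)
    (h : ((i ≠ L.R ∧ i ≠ L.S) ∧ (j ≠ L.R ∧ j ≠ L.S)) ∨ ((i = L.R ∨ i = L.S) ∧ (j = L.R ∨ j = L.S)))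
    (t u : F) : Commute (L.f (T i j t)) (L.P u) := by
  revert u
  refine L.mem_Z.1 ?_
  rcases h with ⟨⟨a, b⟩, c, d⟩ | ⟨rfl | rfl, rfl | rfl⟩
  · exact L.T_others_mem hg h4 hij a b c d t
  · exact absurd rfl hij
  · exact L.T_RS_mem hg h4 hopp t
  · exact L.T_SR_mem hg h4 hopp t
  · exact absurd rfl hij

end Loc

end Cfsg.Lib.OPlusPres
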