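import Cfsg.Agent.Known.OPlusPres.Local
import Cfsg.Agent.Known.OPlusPres.Gens
import Cfsg.Agent.Known.OPlusSt.Finish

/-!
# The relations hold in the orthogonal group
-/

set_option autoImplicit false
set_option linter.unusedSectionVars false

open scoped commutatorElement
open Matrix
open Cfsg.Lib.Known.CurtisTitsA
open Cfsg.Lib.SpPres (Sgn op mag)

namespace Cfsg.Lib.OPlusPres

namespace Model

universe v

variable {n : ℕ} {F : Type v} [Field F] [Finite F]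

/-- The extra element. -/
def rO (R a : Fin n) : ↥(OPlusSt.O n F) := OPlusSt.W OPlusSt.T (Sum.inl R) (Sum.inl a) 1

variable (fO : SpecialLinearGroup (Fin n) F →* ↥(OPlusSt.O n F))
  (hfO : ∀ i j : Fin n, i ≠ j → ∀ t, fO (StN.T i j t) = OPlusSt.T (Sum.inl i) (Sum.inr j) t)

include hfO

theorem img_W {i j : Fin n} (hij : i ≠ j) (x : F) :
    fO (StN.W StN.T i j x) = OPlusSt.W OPlusSt.T (Sum.inl i) (Sum.inr j) x := by
  rw [StN.W, map_mul, map_mul, hfO i j hij, hfO j i hij.symm]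
  rfl

omit hfO in
theorem tau_W {i j : Fin n} (hij : i ≠ j) (x : F) :
    tau (StN.W (StN.T (F := F)) i j x) = StN.W StN.T j i (-x) := by
  rw [StN.W, StN.W, map_mul, map_mul, tau_T hij, tau_T hij.symm, inv_neg, neg_neg]

variable (hn : 4 ≤ n) {R a s k : Fin n} (hRa : R ≠ a) (hRs : R ≠ s) (hRk : R ≠ k) (has : a ≠ s) (hak : a ≠ k)
  (hsk : s ≠ k)

include hn hRa

theorem side_com {i j : Fin n} (hij : i ≠ j) (h : Side R a i j) (t : F) :
    Commute (rO R a) (fO (StN.T i j t)) := by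
  have RT := OPlusSt.rels_T (n := n) (F := F)
  have hne : mag (Sum.inl R : Sgn n) ≠ mag (Sum.inl a : Sgn n) := hRa
  have A := RT.W_ad (by omega) hne (one_ne_zero (α := F))
  obtain ⟨v1, v2, v3, v4⟩ := OPlusSt.rfl'_vals hne
  obtain ⟨s1, s2, s3, s4⟩ := OPlusSt.epsW_vals hne (1 : F)
  have key : ∀ c d : Sgn n, mag c ≠ mag d → ∀ u,
      OPlusSt.T (OPlusSt.rfl' (Sum.inl R) (Sum.inl a) c) (OPlusSt.rfl' (Sum.inl R) (Sum.inl a) d)
        (OPlusSt.epsW (Sum.inl R) (Sum.inl a) (1 : F) c * OPlusSt.epsW (Sum.inl R) (Sum.inl a) (1 : F) d * u) =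
        OPlusSt.T c d u → Commute (rO R a) (OPlusSt.T c d u) := fun c d hcd u e =>
    mul_inv_eq_iff_eq_mul.1 ((A.conj c d hcd u).trans e)
  rw [hfO i j hij]
  refine key _ _ (show mag (Sum.inl i : Sgn n) ≠ mag (Sum.inr j : Sgn n) from hij) t ?_
  rcases h with ⟨hi, hj⟩ | ⟨⟨hiR, hia⟩, hjR, hja⟩
  · rcases hi with rfl | rfl <;> rcases hj with rfl | rfl <;> first | exact absurd rfl hij | skip
    · rw [v1, show (Sum.inr j : Sgn n) = op (Sum.inl j) from rfl, v2, s1, s2, inv_one, neg_one_mul, neg_one_mul,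
        RT.anti (Sum.inl i) (op (Sum.inl j)) (by rwa [SpPres.mag_op]), neg_neg]
    · rw [v4, show (Sum.inr j : Sgn n) = op (Sum.inl j) from rfl, v3, s4, s3, inv_one, one_mul, neg_one_mul,
        RT.anti (Sum.inl i) (op (Sum.inl j)) (by rw [SpPres.mag_op]; exact hij), neg_neg]
  · rw [OPlusSt.rfl'_other hne (c := Sum.inl i) hiR hia, OPlusSt.rfl'_other hne (c := Sum.inr j) hjR hja,
      OPlusSt.epsW_other (a := Sum.inl R) (b := Sum.inl a) (c := Sum.inl i) hiR hia, OPlusSt.epsW_other (a := Sum.inl R) (b := Sum.inl a) (c := Sum.inr j) hjR hja, one_mul, one_mul]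

theorem levi_com {c : SpecialLinearGroup (Fin n) F} (hc : c ∈ Levi F R a) : Commute (rO R a) (fO c) := by
  have hle : Levi F R a ≤ (Subgroup.centralizer {rO R a}).comap fO := by
    rw [Levi, Subgroup.closure_le]
    rintro _ ⟨i, j, t, hij, h, rfl⟩
    rw [SetLike.mem_coe, Subgroup.mem_comap, Subgroup.mem_centralizer_singleton_iff]
    exact (side_com fO hfO hn hRa hij h t).eq.symm
  have := hle hc
  rw [Subgroup.mem_comap, Subgroup.mem_centralizer_singleton_iff] at this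
  exact (Commute.symm this)

include hRs has

theorem base (t : F) :
    rO R a * fO (StN.T s a t) * (rO R a)⁻¹ = OPlusSt.T (Sum.inl s) (Sum.inl R) t := by
  have RT := OPlusSt.rels_T (n := n) (F := F)
  have hne : mag (Sum.inl R : Sgn n) ≠ mag (Sum.inl a : Sgn n) := hRa
  have A := RT.W_ad (by omega) hne (one_ne_zero (α := F))
  obtain ⟨v1, v2, v3, v4⟩ := OPlusSt.rfl'_vals hne
  obtain ⟨s1, s2, s3, s4⟩ := OPlusSt.epsW_vals hne (1 : F)
  rw [hfO _ _ has.symm, rO, A.conj _ _ (show mag (Sum.inl s : Sgn n) ≠ mag (Sum.inr a : Sgn n) from has.symm),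
    show (Sum.inr a : Sgn n) = op (Sum.inl a) from rfl, v2, s2,
    OPlusSt.rfl'_other hne (c := Sum.inl s) hRs.symm has.symm,
    OPlusSt.epsW_other (a := Sum.inl R) (b := Sum.inl a) (c := Sum.inl s) hRs.symm has.symm, one_mul, one_mul]

theorem base' (t : F) :
    rO R a * fO (StN.T a s t) * (rO R a)⁻¹ = OPlusSt.T (Sum.inr R) (Sum.inr s) t := by
  have RT := OPlusSt.rels_T (n := n) (F := F)
  have hne : mag (Sum.inl R : Sgn n) ≠ mag (Sum.inl a : Sgn n) := hRa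
  have A := RT.W_ad (by omega) hne (one_ne_zero (α := F))
  obtain ⟨v1, v2, v3, v4⟩ := OPlusSt.rfl'_vals hne
  obtain ⟨s1, s2, s3, s4⟩ := OPlusSt.epsW_vals hne (1 : F)
  rw [hfO _ _ has, rO, A.conj _ _ (show mag (Sum.inl a : Sgn n) ≠ mag (Sum.inr s : Sgn n) from has), v4, s4,
    OPlusSt.rfl'_other hne (c := Sum.inr s) hRs.symm has.symm,
    OPlusSt.epsW_other (a := Sum.inl R) (b := Sum.inl a) (c := Sum.inr s) hRs.symm has.symm, inv_one, one_mul, one_mul]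
  rfl

include hRk hak hsk

theorem gR_com :
    Commute (fO (StN.W StN.T R s ((1 : Fˣ) : F) * StN.W StN.T a k ((1 : Fˣ) : F)))
      (rO R a * fO (StN.T s a 1) * (rO R a)⁻¹) := by
  have RT := OPlusSt.rels_T (n := n) (F := F)
  rw [Units.val_one, map_mul, img_W fO hfO hRs, img_W fO hfO hak, base fO hfO hn hRa hRs has]
  have hRs' : mag (Sum.inl R : Sgn n) ≠ mag (Sum.inr s : Sgn n) := hRs
  have hak' : mag (Sum.inl a : Sgn n) ≠ mag (Sum.inr k : Sgn n) := hak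
  have hsR : mag (Sum.inl s : Sgn n) ≠ mag (Sum.inl R : Sgn n) := hRs.symm
  have A := RT.W_ad (by omega) hRs' (one_ne_zero (α := F))
  have B := RT.W_ad (by omega) hak' (one_ne_zero (α := F))
  obtain ⟨v1, v2, -, -⟩ := OPlusSt.rfl'_vals hRs'
  obtain ⟨s1, s2, -, -⟩ := OPlusSt.epsW_vals hRs' (1 : F)
  have v1' : OPlusSt.rfl' (Sum.inl R) (Sum.inr s) (Sum.inl R) = (Sum.inl s : Sgn n) := v1
  have v2' : OPlusSt.rfl' (Sum.inl R) (Sum.inr s) (Sum.inl s) = (Sum.inl R : Sgn n) := v2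
  have s2' : OPlusSt.epsW (Sum.inl R) (Sum.inr s) (1 : F) (Sum.inl s) = 1 := s2
  have e2 := B.conj (Sum.inl s) (Sum.inl R) hsR 1
  rw [OPlusSt.rfl'_other hak' (c := Sum.inl s) has.symm hsk, OPlusSt.rfl'_other hak' (c := Sum.inl R) hRa hRk,
    OPlusSt.epsW_other (a := Sum.inl a) (b := Sum.inr k) (c := Sum.inl s) has.symm hsk, OPlusSt.epsW_other (a := Sum.inl a) (b := Sum.inr k) (c := Sum.inl R) hRa hRk,
    one_mul, one_mul] at e2
  have e1 := A.conj (Sum.inl s) (Sum.inl R) hsR 1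
  rw [v1', v2', s1, s2', inv_one, one_mul, mul_one, RT.anti (Sum.inl s) (Sum.inl R) hsR, neg_neg] at e1
  exact Commute.mul_left (mul_inv_eq_iff_eq_mul.1 e1) (mul_inv_eq_iff_eq_mul.1 e2)

theorem gR_com' :
    Commute (fO (tau (StN.W StN.T R s ((1 : Fˣ) : F) * StN.W StN.T a k ((1 : Fˣ) : F))))
      (rO R a * fO (tau (StN.T s a 1)) * (rO R a)⁻¹) := by
  have RT := OPlusSt.rels_T (n := n) (F := F)
  rw [Units.val_one, map_mul, tau_W hRs, tau_W hak, map_mul, img_W fO hfO hRs.symm, img_W fO hfO hak.symm,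
    tau_T has.symm, base' fO hfO hn hRa hRs has]
  have hsR' : mag (Sum.inl s : Sgn n) ≠ mag (Sum.inr R : Sgn n) := hRs.symm
  have hka' : mag (Sum.inl k : Sgn n) ≠ mag (Sum.inr a : Sgn n) := hak.symm
  have hRs' : mag (Sum.inr R : Sgn n) ≠ mag (Sum.inr s : Sgn n) := hRs
  have A := RT.W_ad (by omega) hsR' (neg_ne_zero.2 (one_ne_zero (α := F)))
  have B := RT.W_ad (by omega) hka' (neg_ne_zero.2 (one_ne_zero (α := F)))
  obtain ⟨-, -, v3, v4⟩ := OPlusSt.rfl'_vals hsR'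
  obtain ⟨-, -, s3, s4⟩ := OPlusSt.epsW_vals hsR' (-1 : F)
  have v3' : OPlusSt.rfl' (Sum.inl s) (Sum.inr R) (Sum.inr s) = (Sum.inr R : Sgn n) := v3
  have v4' : OPlusSt.rfl' (Sum.inl s) (Sum.inr R) (Sum.inr R) = (Sum.inr s : Sgn n) := v4
  have s3' : OPlusSt.epsW (Sum.inl s) (Sum.inr R) (-1 : F) (Sum.inr s) = -(-1) := s3
  have e2 := B.conj (Sum.inr R) (Sum.inr s) hRs' (-1)
  rw [OPlusSt.rfl'_other hka' (c := Sum.inr R) hRk hRa, OPlusSt.rfl'_other hka' (c := Sum.inr s) hsk has.symm,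
    OPlusSt.epsW_other (a := Sum.inl k) (b := Sum.inr a) (c := Sum.inr R) hRk hRa, OPlusSt.epsW_other (a := Sum.inl k) (b := Sum.inr a) (c := Sum.inr s) hsk has.symm,
    one_mul, one_mul] at e2
  have e1 := A.conj (Sum.inr R) (Sum.inr s) hRs' (-1)
  rw [v3', v4', s4, s3', inv_neg, inv_one, neg_neg, mul_one, neg_one_mul, neg_neg,
    RT.anti (Sum.inr R) (Sum.inr s) hRs'] at e1
  exact Commute.mul_left (mul_inv_eq_iff_eq_mul.1 e1) (mul_inv_eq_iff_eq_mul.1 e2)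

theorem four_com : Commute (fO (StN.T a k 1)) (rO R a * fO (StN.T s a 1) * (rO R a)⁻¹) := by
  rw [hfO _ _ hak, base fO hfO hn hRa hRs has]
  refine OPlusSt.rels_T.disj _ _ _ _ (show mag (Sum.inl a : Sgn n) ≠ mag (Sum.inr k : Sgn n) from hak)
    (show mag (Sum.inl s : Sgn n) ≠ mag (Sum.inl R : Sgn n) from hRs.symm) ?_ ?_ ?_ ?_ 1 1 <;>
  · simp [SpPres.op, hRa, hRa.symm, has, has.symm, hsk, hsk.symm, hRk, hRk.symm]

theorem even_com : Commute (fO (StN.T R s 1)) (rO R a * fO (StN.T s a 1) * (rO R a)⁻¹) := by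
  rw [hfO _ _ hRs, base fO hfO hn hRa hRs has,
    OPlusSt.rels_T.anti (Sum.inl R) (Sum.inl s) hRs]
  exact ((OPlusSt.rels_T (n := n) (F := F)).opp (Sum.inl R) (Sum.inl s) hRs _ _).symm

omit hRk hak hsk hRs has in
theorem odd_sq (h2 : (2 : F) ≠ 0) : rO R a * rO R a = fO (Loc.hW R a (-1)) := by
  have RT := OPlusSt.rels_T (n := n) (F := F)
  have hne : mag (Sum.inl R : Sgn n) ≠ mag (Sum.inl a : Sgn n) := hRa
  have hne' : mag (Sum.inl R : Sgn n) ≠ mag (op (Sum.inl a) : Sgn n) := hne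
  have h := (OPlusSt.minus_spec (F := F) hn hne h2).1
  have hW : ∀ {c d : Sgn n}, mag c ≠ mag d → ∀ t,
      OPlusSt.proj n F (OPlusSt.W OPlusSt.XG c d t) = OPlusSt.W OPlusSt.T c d t := by
    intro c d hcd t
    rw [OPlusSt.W, OPlusSt.W, map_mul, map_mul, OPlusSt.proj_XG c d hcd,
      OPlusSt.proj_XG _ _ (by rw [SpPres.mag_op, SpPres.mag_op]; exact hcd.symm)]
  rw [MonoidHom.mem_ker, map_mul, OPlusSt.hh, OPlusSt.hh, map_mul, map_mul, map_inv, map_inv, hW hne, hW hne,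
    hW hne', hW hne', ← RT.W_inv hne, ← _root_.mul_inv_rev, inv_mul_eq_one] at h
  rw [rO, h, Loc.hW, map_mul, map_inv, img_W fO hfO hRa, img_W fO hfO hRa, Units.val_neg, Units.val_one]
  rfl

omit hRk hak hsk in
theorem weyl :
    rO R a = fO (StN.W StN.T a s ((1 : Fˣ) : F)) * (rO R a * fO (StN.T s a (-1)) * (rO R a)⁻¹) *
      (fO (StN.W StN.T a s ((1 : Fˣ) : F)))⁻¹ *
    (rO R a * (fO (StN.W StN.T a s ((1 : Fˣ) : F)) * (rO R a * fO (StN.T s a (-1)) * (rO R a)⁻¹) *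
      (fO (StN.W StN.T a s ((1 : Fˣ) : F)))⁻¹) * (rO R a)⁻¹) *
    (fO (StN.W StN.T a s ((1 : Fˣ) : F)) * (rO R a * fO (StN.T s a (-1)) * (rO R a)⁻¹) *
      (fO (StN.W StN.T a s ((1 : Fˣ) : F)))⁻¹) := by
  have RT := OPlusSt.rels_T (n := n) (F := F)
  have hne : mag (Sum.inl R : Sgn n) ≠ mag (Sum.inl a : Sgn n) := hRa
  have hne' : mag (Sum.inl a : Sgn n) ≠ mag (Sum.inr s : Sgn n) := has
  rw [base fO hfO hn hRa hRs has, Units.val_one, img_W fO hfO has]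
  have A := RT.W_ad (by omega) hne (one_ne_zero (α := F))
  have B := RT.W_ad (by omega) hne' (one_ne_zero (α := F))
  obtain ⟨v1, v2, v3, v4⟩ := OPlusSt.rfl'_vals hne
  obtain ⟨s1, s2, s3, s4⟩ := OPlusSt.epsW_vals hne (1 : F)
  obtain ⟨-, w2, -, -⟩ := OPlusSt.rfl'_vals hne'
  obtain ⟨-, t2, -, -⟩ := OPlusSt.epsW_vals hne' (1 : F)
  have w2' : OPlusSt.rfl' (Sum.inl a) (Sum.inr s) (Sum.inl s) = (Sum.inl a : Sgn n) := w2
  have t2' : OPlusSt.epsW (Sum.inl a) (Sum.inr s) (1 : F) (Sum.inl s) = 1 := t2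
  have hp : OPlusSt.W OPlusSt.T (Sum.inl a) (Sum.inr s) (1 : F) * OPlusSt.T (Sum.inl s) (Sum.inl R) (-1) *
      (OPlusSt.W OPlusSt.T (Sum.inl a) (Sum.inr s) (1 : F))⁻¹ =
      (OPlusSt.T (Sum.inl R) (Sum.inl a) 1 : ↥(OPlusSt.O n F)) := by
    rw [B.conj _ _ (show mag (Sum.inl s : Sgn n) ≠ mag (Sum.inl R : Sgn n) from hRs.symm), w2', t2',
      OPlusSt.rfl'_other hne' (c := Sum.inl R) hRa hRs, OPlusSt.epsW_other (a := Sum.inl a) (b := Sum.inr s) (c := Sum.inl R) hRa hRs,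
      one_mul, one_mul, RT.anti (Sum.inl R) (Sum.inl a) hne, neg_neg]
  rw [hp, rO, A.conj _ _ hne, v1, v4, s1, s4, inv_one, neg_one_mul, mul_one]
  conv_lhs => rw [OPlusSt.W, RT.anti (op (Sum.inl R)) (op (Sum.inl a))
    (by rw [SpPres.mag_op, SpPres.mag_op]; exact hne), inv_one, neg_neg]
  rw [RT.anti (op (Sum.inl R)) (op (Sum.inl a)) (by rw [SpPres.mag_op, SpPres.mag_op]; exact hne), neg_neg]

end Model

end Cfsg.Lib.OPlusPres
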