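import Cfsg.Agent.Known.OPlusPres.Glue
import Cfsg.Agent.Known.OPlusPres.Model

/-!
# Bounded presentations of the derived split orthogonal groups
-/

set_option autoImplicit false
set_option linter.unusedSectionVars false
set_option maxHeartbeats 800000

open scoped commutatorElement
open Matrix
open Cfsg.Lib.Known.CurtisTitsA
open Cfsg.Lib.SpPres (Sgn op mag)
open Cfsg.Lib.SLnPres (PresN)

namespace Cfsg.Lib.OPlusPres

universe v

variable {F : Type v} [Field F] [Fintype F]

theorem main {n : ℕ} (hn : 4 ≤ n) {r0 : ℕ} (h : PresN (SpecialLinearGroup (Fin n) F) 5 r0) :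
    PresN ↥(Cfsg.Omega F (Cfsg.quadFormPlus n F)) 6 (r0 + (if n = 4 then 9 else 6)) := by
  classical
  obtain ⟨R0, hR0, ⟨e⟩⟩ := h
  obtain ⟨R, hR⟩ : ∃ R : Fin n, R.val + 1 = n := ⟨⟨n - 1, by omega⟩, by dsimp only; omega⟩
  obtain ⟨s, hs⟩ : ∃ s : Fin n, s.val + 2 = n := ⟨⟨n - 2, by omega⟩, by dsimp only; omega⟩
  obtain ⟨k, hk⟩ : ∃ k : Fin n, k.val + 3 = n := ⟨⟨n - 3, by omega⟩, by dsimp only; omega⟩
  obtain ⟨a, ha⟩ : ∃ a : Fin n, a.val + 4 = n := ⟨⟨n - 4, by omega⟩, by dsimp only; omega⟩
  have hRa : R ≠ a := Fin.ne_of_val_ne (by omega)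
  have hRs : R ≠ s := Fin.ne_of_val_ne (by omega)
  have hRk : R ≠ k := Fin.ne_of_val_ne (by omega)
  have has : a ≠ s := Fin.ne_of_val_ne (by omega)
  have hak : a ≠ k := Fin.ne_of_val_ne (by omega)
  have hsk : s ≠ k := Fin.ne_of_val_ne (by omega)
  obtain ⟨L, hLlen, hL⟩ := levi_list (F := F) hn hRa
  have hinl : Function.Injective (mag ∘ (Sum.inl : Fin n → Sgn n)) := fun _ _ h => h
  obtain ⟨fO, hfO⟩ := exists_hom_of_rels (N := n) (by omega)
    ((OPlusSt.rels_T (n := n) (F := F)).rels_flip (w := (Sum.inl : Fin n → Sgn n)) hinl)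
  replace hfO : ∀ i j : Fin n, i ≠ j → ∀ t, fO (StN.T i j t) = OPlusSt.T (Sum.inl i) (Sum.inr j) t := hfO
  -- words
  have hword := fun x : SpecialLinearGroup (Fin n) F =>
    PresentedGroup.mk_surjective (↑R0 : Set (FreeGroup (Fin 5))) (e.symm x)
  choose word hword using hword
  let emb : FreeGroup (Fin 5) →* FreeGroup (Fin 6) := FreeGroup.lift fun i => FreeGroup.of i.castSucc
  let rho : FreeGroup (Fin 6) := FreeGroup.of (Fin.last 5)
  let wf : SpecialLinearGroup (Fin n) F → FreeGroup (Fin 6) := fun x => emb (word x)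
  let cr : FreeGroup (Fin 6) → FreeGroup (Fin 6) := fun y => rho * y * rho⁻¹
  let g : SpecialLinearGroup (Fin n) F := StN.W StN.T R s ((1 : Fˣ) : F) * StN.W StN.T a k ((1 : Fˣ) : F)
  let p : FreeGroup (Fin 6) :=
    wf (StN.W StN.T a s ((1 : Fˣ) : F)) * cr (wf (StN.T s a (-1))) * (wf (StN.W StN.T a s ((1 : Fˣ) : F)))⁻¹
  let par : FreeGroup (Fin 6) := if (2 : F) ≠ 0 then rho * rho * (wf (Loc.hW R a (-1)))⁻¹
    else ⁅wf (StN.T R s 1), cr (wf (StN.T s a 1))⁆
  let extra : Finset (FreeGroup (Fin 6)) :=
    {⁅wf g, cr (wf (StN.T s a 1))⁆, ⁅wf (tau g), cr (wf (tau (StN.T s a 1)))⁆, par, rho * (p * cr p * p)⁻¹}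
  let four : Finset (FreeGroup (Fin 6)) := if n = 4 then {⁅wf (StN.T a k 1), cr (wf (StN.T s a 1))⁆} else ∅
  let rels : Finset (FreeGroup (Fin 6)) :=
    R0.image emb ∪ L.toFinset.image (fun c => ⁅rho, wf c⁆) ∪ extra ∪ four
  have hcard : rels.card ≤ r0 + (if n = 4 then 9 else 6) := by
    have h1 : (R0.image emb).card ≤ r0 := Finset.card_image_le.trans hR0
    have h2 : (L.toFinset.image fun c => ⁅rho, wf c⁆).card ≤ (if n = 4 then 4 else 2) :=
      Finset.card_image_le.trans ((List.toFinset_card_le L).trans hLlen)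
    have h3 : extra.card ≤ 4 := Finset.card_le_four
    have h4 : four.card ≤ (if n = 4 then 1 else 0) := by simp only [four]; split_ifs <;> simp
    have u1 := Finset.card_union_le (R0.image emb) (L.toFinset.image fun c => ⁅rho, wf c⁆)
    have u2 := Finset.card_union_le (R0.image emb ∪ L.toFinset.image (fun c => ⁅rho, wf c⁆)) extra
    have u3 := Finset.card_union_le (R0.image emb ∪ L.toFinset.image (fun c => ⁅rho, wf c⁆) ∪ extra) four
    show (R0.image emb ∪ L.toFinset.image (fun c => ⁅rho, wf c⁆) ∪ extra ∪ four).card ≤ _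
    split_ifs at h2 h4 ⊢ <;> omega
  let q : FreeGroup (Fin 6) →* PresentedGroup (↑rels : Set (FreeGroup (Fin 6))) := PresentedGroup.mk _
  have hq : ∀ w ∈ rels, q w = 1 := fun w hw => PresentedGroup.one_of_mem hw
  -- the map on the special linear group
  have hemb : FreeGroup.lift (fun i : Fin 5 => PresentedGroup.of (rels := (↑rels : Set (FreeGroup (Fin 6))))
      i.castSucc) = q.comp emb := FreeGroup.ext_hom _ _ fun i => by simp [q, emb, PresentedGroup.of]
  have hrel0 : ∀ w ∈ (↑R0 : Set (FreeGroup (Fin 5))), FreeGroup.lift (fun i : Fin 5 =>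
      PresentedGroup.of (rels := (↑rels : Set (FreeGroup (Fin 6)))) i.castSucc) w = 1 := fun w hw => by
    rw [hemb, MonoidHom.comp_apply]
    exact hq _ (Finset.mem_union_left _ (Finset.mem_union_left _ (Finset.mem_union_left _
      (Finset.mem_image_of_mem _ hw))))
  let f : SpecialLinearGroup (Fin n) F →* PresentedGroup (↑rels : Set (FreeGroup (Fin 6))) :=
    (PresentedGroup.toGroup hrel0).comp e.symm.toMonoidHom
  have hf : ∀ x, q (wf x) = f x := fun x => by
    show q (emb (word x)) = PresentedGroup.toGroup hrel0 (e.symm x)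
    rw [← hword, ← MonoidHom.comp_apply, ← hemb]
    rfl
  let r : PresentedGroup (↑rels : Set (FreeGroup (Fin 6))) := q rho
  have hcr : ∀ x, q (cr (wf x)) = r * f x * r⁻¹ := fun x => by
    show q (rho * wf x * rho⁻¹) = _
    rw [map_mul, map_mul, map_inv, hf]
  -- the model
  let g6 : Fin 6 → ↥(OPlusSt.O n F) :=
    Fin.snoc (fun i : Fin 5 => fO (e (PresentedGroup.of i))) (Model.rO R a)
  have hg6 : (FreeGroup.lift g6).comp emb =
      fO.comp (e.toMonoidHom.comp (PresentedGroup.mk (↑R0 : Set (FreeGroup (Fin 5))))) :=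
    FreeGroup.ext_hom _ _ fun i => by
      simp only [MonoidHom.comp_apply, emb, FreeGroup.lift_apply_of, g6]
      exact Fin.snoc_castSucc (α := fun _ => ↥(OPlusSt.O n F)) _ _ i
  have mf : ∀ x, FreeGroup.lift g6 (wf x) = fO x := fun x => by
    show FreeGroup.lift g6 (emb (word x)) = _
    rw [← MonoidHom.comp_apply, hg6]
    show fO (e (PresentedGroup.mk _ (word x))) = _
    rw [hword, MulEquiv.apply_symm_apply]
  have mr : FreeGroup.lift g6 rho = Model.rO R a := by
    show FreeGroup.lift g6 (FreeGroup.of _) = _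
    rw [FreeGroup.lift_apply_of]
    exact Fin.snoc_last (α := fun _ => ↥(OPlusSt.O n F)) _ _
  have mcr : ∀ x, FreeGroup.lift g6 (cr (wf x)) = Model.rO R a * fO x * (Model.rO R a)⁻¹ := fun x => by
    show FreeGroup.lift g6 (rho * wf x * rho⁻¹) = _
    rw [map_mul, map_mul, map_inv, mf, mr]
  have hmodel : ∀ w ∈ (↑rels : Set (FreeGroup (Fin 6))), FreeGroup.lift g6 w = 1 := by
    intro w hw
    rw [Finset.mem_coe] at hw
    simp only [rels, Finset.mem_union, Finset.mem_image, List.mem_toFinset] at hw
    rcases hw with ((⟨w0, hw0, rfl⟩ | ⟨c, hc, rfl⟩) | hw) | hw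
    · rw [← MonoidHom.comp_apply, hg6]
      show fO (e (PresentedGroup.mk _ w0)) = 1
      rw [PresentedGroup.one_of_mem hw0, map_one, map_one]
    · rw [map_commutatorElement, mr, mf, commutatorElement_eq_one_iff_commute]
      exact Model.levi_com fO hfO hn hRa (hL ▸ Subgroup.subset_closure hc)
    · simp only [extra, Finset.mem_insert, Finset.mem_singleton] at hw
      rcases hw with rfl | rfl | rfl | rfl
      · rw [map_commutatorElement, mf, mcr, commutatorElement_eq_one_iff_commute]
        exact Model.gR_com fO hfO hn hRa hRs hRk has hak hsk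
      · rw [map_commutatorElement, mf, mcr, commutatorElement_eq_one_iff_commute]
        exact Model.gR_com' fO hfO hn hRa hRs hRk has hak hsk
      · simp only [par]
        split_ifs with h2
        · rw [map_mul, map_mul, map_inv, mr, mf, mul_inv_eq_one]
          exact Model.odd_sq fO hfO hn hRa h2
        · rw [map_commutatorElement, mf, mcr, commutatorElement_eq_one_iff_commute]
          exact Model.even_com fO hfO hn hRa hRs hRk has hak hsk
      · simp only [p, cr]
        simp only [map_mul, map_inv, mr, mf]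
        rw [mul_inv_eq_one]
        exact Model.weyl fO hfO hn hRa hRs has
    · simp only [four] at hw
      split_ifs at hw with h4
      · rw [Finset.mem_singleton] at hw
        subst hw
        rw [map_commutatorElement, mf, mcr, commutatorElement_eq_one_iff_commute]
        exact Model.four_com fO hfO hn hRa hRs hRk has hak hsk
      · simp at hw
  let φ : PresentedGroup (↑rels : Set (FreeGroup (Fin 6))) →* ↥(OPlusSt.O n F) := PresentedGroup.toGroup hmodel
  have hφ : ∀ w, φ (q w) = FreeGroup.lift g6 w := fun w => rfl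
  -- relations in the presented group
  have hex : ∀ w ∈ extra, q w = 1 := fun w hw =>
    hq w (Finset.mem_union_left _ (Finset.mem_union_right _ hw))
  have hcom : ∀ c ∈ Levi F R a, Commute r (f c) := by
    intro c hc
    have hle : Levi F R a ≤ (Subgroup.centralizer {r}).comap f := by
      rw [← hL, Subgroup.closure_le]
      intro c hc
      rw [SetLike.mem_coe, Subgroup.mem_comap, Subgroup.mem_centralizer_singleton_iff]
      have := hq ⁅rho, wf c⁆ (Finset.mem_union_left _ (Finset.mem_union_left _ (Finset.mem_union_right _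
        (Finset.mem_image.2 ⟨c, List.mem_toFinset.2 hc, rfl⟩))))
      rw [map_commutatorElement, hf, commutatorElement_eq_one_iff_commute] at this
      exact this.eq.symm
    have := hle hc
    rw [Subgroup.mem_comap, Subgroup.mem_centralizer_singleton_iff] at this
    exact Commute.symm this
  let E : Data n F (PresentedGroup (↑rels : Set (FreeGroup (Fin 6)))) :=
    { f := f
      r := r
      φ := φ
      a := a
      k := k
      s := s
      R := R
      ha := ha
      hk := hk
      hs := hs
      hR := hR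
      φf := fun i j hij t => by rw [← hf, hφ, mf, hfO i j hij]
      φr := by
        show φ (q rho) = _
        rw [hφ, mr]
        rfl
      gen := by
        rw [eq_top_iff, ← PresentedGroup.closure_range_of (↑rels : Set (FreeGroup (Fin 6))), Subgroup.closure_le]
        rintro _ ⟨i, rfl⟩
        refine Subgroup.subset_closure ?_
        refine Fin.lastCases ?_ (fun i => ?_) i
        · exact Or.inr rfl
        · refine Or.inl ⟨e (PresentedGroup.of i), ?_⟩
          show PresentedGroup.toGroup hrel0 (e.symm (e (PresentedGroup.of i))) = _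
          rw [MulEquiv.symm_apply_apply, PresentedGroup.toGroup.of]
      com := fun i j hij h t => hcom _ (Subgroup.subset_closure ⟨i, j, t, hij, h, rfl⟩)
      g_rel := by
        have := hex ⁅wf g, cr (wf (StN.T s a 1))⁆ (by simp [extra])
        rwa [map_commutatorElement, hf, hcr, commutatorElement_eq_one_iff_commute] at this
      g_rel' := by
        have := hex ⁅wf (tau g), cr (wf (tau (StN.T s a 1)))⁆ (by simp [extra])
        rwa [map_commutatorElement, hf, hcr, commutatorElement_eq_one_iff_commute] at this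
      four := fun h4 => by
        have := hq ⁅wf (StN.T a k 1), cr (wf (StN.T s a 1))⁆ (Finset.mem_union_right _ (by simp [four, h4]))
        rwa [map_commutatorElement, hf, hcr, commutatorElement_eq_one_iff_commute] at this
      parity := by
        have := hex par (by simp [extra])
        by_cases h2 : (2 : F) = 0
        · refine Or.inr ⟨h2, ?_⟩
          simp only [par] at this
          rw [if_neg (not_not.2 h2), map_commutatorElement, hf, hcr, commutatorElement_eq_one_iff_commute] at this
          exact this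
        · refine Or.inl ⟨h2, ?_⟩
          simp only [par] at this
          rw [if_pos h2, map_mul, map_mul, map_inv, hf, mul_inv_eq_one] at this
          exact this
      weyl := by
        have := hex (rho * (p * cr p * p)⁻¹) (by simp [extra])
        simp only [p, cr, map_mul, map_inv, hf, mul_inv_eq_one] at this
        exact this }
  exact ⟨rels, hcard, E.iso⟩

theorem sl_five {n : ℕ} (hn : 4 ≤ n) :
    ∃ r0, r0 + (if n = 4 then 9 else 6) ≤ (if n ≤ 5 then 27 else 29) ∧
      PresN (SpecialLinearGroup (Fin n) F) 5 r0 := by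
  by_cases h : n = 4 ∨ n = 5
  · refine ⟨_, ?_, SLnPres.sl_four_five (F := F) n h⟩
    rcases h with rfl | rfl <;> simp
  · obtain ⟨R3, e3, hR3, -⟩ := AltPres.pres3_alt_fin n (by omega)
    obtain ⟨R, hR, e⟩ := SLnPres.main hn (F := F) R3 e3 hR3
    refine ⟨23, ?_, R, hR.trans ?_, e⟩ <;> split_ifs <;> omega

theorem omega_pres {n : ℕ} (hn : 4 ≤ n) :
    PresN ↥(Cfsg.Omega F (Cfsg.quadFormPlus n F)) 8 (if n ≤ 5 then 29 else 31) := by
  obtain ⟨r0, hr, h⟩ := sl_five (F := F) hn
  refine ((main hn h).pad (show 6 ≤ 8 by norm_num)).mono ?_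
  split_ifs at hr ⊢ <;> omega

theorem center_cyclic {n : ℕ} (hn : 4 ≤ n) :
    ∃ z, Subgroup.center ↥(Cfsg.Omega F (Cfsg.quadFormPlus n F)) = Subgroup.zpowers z := by
  set Z := Subgroup.center ↥(Cfsg.Omega F (Cfsg.quadFormPlus n F))
  by_cases h : ∃ z ∈ Z, OPlusSt.mat z.1 = -1
  · obtain ⟨z, hz, hz1⟩ := h
    refine ⟨z, le_antisymm (fun x hx => ?_) (Subgroup.zpowers_le.2 hz)⟩
    rcases (OPlusSt.center_omega hn x).1 hx with e | e
    · rw [show x = 1 from Subtype.ext (OPlusSt.mat_ext (e.trans (OPlusSt.mat_one).symm))]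
      exact one_mem _
    · rw [show x = z from Subtype.ext (OPlusSt.mat_ext (e.trans hz1.symm))]
      exact Subgroup.mem_zpowers z
  · refine ⟨1, le_antisymm (fun x hx => ?_) (Subgroup.zpowers_le.2 (one_mem _))⟩
    rcases (OPlusSt.center_omega hn x).1 hx with e | e
    · rw [show x = 1 from Subtype.ext (OPlusSt.mat_ext (e.trans (OPlusSt.mat_one).symm))]
      exact one_mem _
    · exact absurd ⟨x, hx, e⟩ h

theorem pomega_pres {n : ℕ} (hn : 4 ≤ n) :
    PresN (Cfsg.POmega F (Cfsg.quadFormPlus n F)) 8 ((if n ≤ 5 then 29 else 31) + 1) := by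
  obtain ⟨z, hz⟩ := center_cyclic (F := F) hn
  exact (omega_pres hn).quotient _ z hz

end Cfsg.Lib.OPlusPres
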